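import Mathlib
import Cfsg.Agent.Lib.Involutions.BaerSuzuki

/-!
Real class sizes with disconnected prime graph (S4187): the pigeonhole core.

`X` has a 2-subgroup `Q`, central in a Sylow 2-subgroup `P`, such that every odd prime-power element
inverted by a conjugate of an element of `Q` normalises no nontrivial 2-subgroup and has a centraliser
transitive on the conjugates of `P`. Then the conjugates of `Q` are disjoint, each contains all the
conjugates of its involutions commuting with one of them, and two such involutions outside `Q`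
conjugate `Q` to the same place.
-/

set_option autoImplicit false

namespace Cfsg.Agent.RealClassDisc

universe u

variable {G : Type u} [Group G]

/-- Conjugate of a subgroup. -/
def cj (g : G) (H : Subgroup G) : Subgroup G := H.map (MulAut.conj g).toMonoidHom

theorem mem_cj {g x : G} {H : Subgroup G} : x ∈ cj g H ↔ g⁻¹ * x * g ∈ H := by
  constructor
  · rintro ⟨h, hh, rfl⟩
    simpa [mul_assoc] using hh
  · intro h
    exact ⟨_, h, by simp [mul_assoc]⟩

theorem cj_cj (a b : G) (H : Subgroup G) : cj a (cj b H) = cj (a * b) H := by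
  ext x
  simp [mem_cj, mul_assoc]

theorem cj_one (H : Subgroup G) : cj 1 H = H := by
  ext x
  simp [mem_cj]

theorem cj_mono (g : G) {H K : Subgroup G} (h : H ≤ K) : cj g H ≤ cj g K := Subgroup.map_mono h

theorem card_cj (g : G) (H : Subgroup G) : Nat.card (cj g H) = Nat.card H :=
  Subgroup.card_map_of_injective (MulAut.conj g).injective

theorem isPGroup_cj {p : ℕ} (g : G) {H : Subgroup G} (h : IsPGroup p H) : IsPGroup p (cj g H) :=
  h.map _

theorem cj_inv_eq {g : G} {H : Subgroup G} (h : cj g H = H) : cj g⁻¹ H = H := by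
  conv_lhs => rw [← h]
  rw [cj_cj, inv_mul_cancel, cj_one]

theorem mem_normalizer_of_cj_eq {g : G} {H : Subgroup G} (h : cj g H = H) :
    g ∈ Subgroup.normalizer (H : Set G) := by
  refine Subgroup.mem_normalizer_iff.2 fun x => ?_
  constructor
  · intro hx
    rw [← h, mem_cj]
    simpa [mul_assoc] using hx
  · intro hx
    rw [← h, mem_cj] at hx
    simpa [mul_assoc] using hx

theorem cj_eq_of_mem_normalizer {g : G} {H : Subgroup G} (h : g ∈ Subgroup.normalizer (H : Set G)) :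
    cj g H = H := by
  ext x
  rw [mem_cj]
  exact ((Subgroup.mem_normalizer_iff''.1 h) x).symm

/-- An element of odd prime power order, not `1`. -/
def PP (y : G) : Prop := y ≠ 1 ∧ ∃ r k : ℕ, r.Prime ∧ r ≠ 2 ∧ y ^ r ^ k = 1

theorem PP.odd {y : G} (h : PP y) : Odd (orderOf y) := by
  obtain ⟨-, r, k, hr, hr2, hy⟩ := h
  exact Odd.of_dvd_nat ((hr.odd_of_ne_two hr2).pow) (orderOf_dvd_of_pow_eq_one hy)

theorem eq_one_of_odd {y : G} (ho : Odd (orderOf y)) {n : ℕ} (h : y ^ 2 ^ n = 1) : y = 1 :=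
  orderOf_eq_one_iff.1 (Nat.eq_one_of_dvd_coprimes
    (Nat.Coprime.pow_left n (Nat.coprime_two_left.2 ho)) (orderOf_dvd_of_pow_eq_one h) dvd_rfl)

theorem PP.conj {y : G} (h : PP y) (g : G) : PP (g * y * g⁻¹) := by
  obtain ⟨hne, r, k, hr, hr2, hy⟩ := h
  exact ⟨fun e => hne (conj_eq_one_iff.1 e), r, k, hr, hr2, by rw [conj_pow, hy]; group⟩

theorem exists_PP_pow [Finite G] {w : G} (hw : w ≠ 1) (ho : Odd (orderOf w)) :
    ∃ j : ℕ, PP (w ^ j) := by
  have h1 : orderOf w ≠ 1 := fun e => hw (orderOf_eq_one_iff.1 e)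
  set r := (orderOf w).minFac
  have hr : r.Prime := Nat.minFac_prime h1
  have hd : r ∣ orderOf w := Nat.minFac_dvd _
  have ho' : orderOf (w ^ (orderOf w / r)) = r := orderOf_pow_orderOf_div (orderOf_pos w).ne' hd
  refine ⟨orderOf w / r, fun e => hr.one_lt.ne ?_, r, 1, hr, fun e => ?_, ?_⟩
  · rw [← ho', e, orderOf_one]
  · exact Nat.not_even_iff_odd.2 ho (even_iff_two_dvd.2 (e ▸ hd))
  · rw [pow_one]
    exact orderOf_dvd_iff_pow_eq_one.1 (ho'.symm ▸ dvd_rfl)

theorem inv_pow_of_inv {t y : G} (h : t * y * t⁻¹ = y⁻¹) (j : ℕ) :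
    t * y ^ j * t⁻¹ = (y ^ j)⁻¹ := by
  rw [← conj_pow, h, inv_pow]

/-- An involution inverts the product with an involution. -/
theorem inv_mul_invol {a b : G} (ha : a * a = 1) (hb : b * b = 1) :
    a * (a * b) * a⁻¹ = (a * b)⁻¹ := by
  rw [mul_inv_rev, inv_eq_of_mul_eq_one_right hb, inv_eq_of_mul_eq_one_right ha, ← mul_assoc, ha, one_mul]

theorem invol_conj {a : G} (ha : a * a = 1) (g : G) : g * a * g⁻¹ * (g * a * g⁻¹) = 1 := by
  rw [conj_mul, ha]; group

theorem isPGroup_zpowers_two {e : G} {n : ℕ} (he : e ^ 2 ^ n = 1) :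
    IsPGroup 2 (Subgroup.zpowers e) := fun ⟨a, ha⟩ => ⟨n, Subtype.ext (by
  obtain ⟨i, rfl⟩ := Subgroup.mem_zpowers_iff.1 ha
  show (e ^ i) ^ 2 ^ n = 1
  rw [← zpow_natCast (e ^ i), ← zpow_mul, mul_comm, zpow_mul, zpow_natCast, he, one_zpow])⟩

theorem cj_zpowers (g e : G) : cj g (Subgroup.zpowers e) = Subgroup.zpowers (g * e * g⁻¹) := by
  rw [cj, MonoidHom.map_zpowers]
  rfl

/-- An involution inverting a nontrivial odd prime-power element. -/
theorem exists_PP_inverted [Finite G] {a : G} (ha : a * a = 1) (ha1 : a ≠ 1)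
    (hO : ∀ N : Subgroup G, N.Normal → IsPGroup 2 N → N = ⊥) :
    ∃ y : G, PP y ∧ a * y * a⁻¹ = y⁻¹ := by
  have ho : orderOf a = 2 := orderOf_eq_prime (by rw [pow_two, ha]) ha1
  obtain ⟨h, hh, hodd, hinv⟩ := Involutions.BaerSuzuki.exists_inverted_odd a ho fun N hN hN2 haN =>
    ha1 (Subgroup.mem_bot.1 (hO N hN hN2 ▸ haN))
  obtain ⟨j, hj⟩ := exists_PP_pow hh hodd
  exact ⟨_, hj, inv_pow_of_inv hinv j⟩

/-- The pigeonhole core. -/
theorem core [Finite G] (M P Q : Subgroup G) (hP2 : IsPGroup 2 P)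
    (hMP : ∀ m ∈ M, cj m P = P) (hMQ : ∀ m ∈ M, cj m Q = Q) (hQP : Q ≤ P)
    (hQc : ∀ q ∈ Q, ∀ p ∈ P, q * p = p * q) (hQ2 : ∀ q ∈ Q, q * q = 1) (hQ3 : 2 < Nat.card Q)
    (hS : ∀ H : Subgroup G, IsPGroup 2 H → ∃ g, H ≤ cj g P)
    (hO : ∀ N : Subgroup G, N.Normal → IsPGroup 2 N → N = ⊥)
    (hY : ∀ y : G, PP y → ∀ a ∈ Q, a ≠ 1 → ∀ g : G,
      (g * a * g⁻¹) * y * (g * a * g⁻¹)⁻¹ = y⁻¹ →
      (∀ H : Subgroup G, IsPGroup 2 H → cj y H = H → H = ⊥) ∧
        ∀ x : G, ∃ c m : G, c * y = y * c ∧ m ∈ M ∧ x = c * m) : False := by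
  set K : Set G := {t | ∃ a ∈ Q, a ≠ 1 ∧ ∃ g : G, t = g * a * g⁻¹} with hK
  have hKinv : ∀ t ∈ K, t * t = 1 := by
    rintro t ⟨a, ha, -, g, rfl⟩
    exact invol_conj (hQ2 a ha) g
  have hKne : ∀ t ∈ K, t ≠ 1 := by
    rintro t ⟨a, -, ha1, g, rfl⟩ e
    exact ha1 (conj_eq_one_iff.1 e)
  have hKconj : ∀ t ∈ K, ∀ g : G, g * t * g⁻¹ ∈ K := by
    rintro t ⟨a, ha, ha1, g', rfl⟩ g
    exact ⟨a, ha, ha1, g * g', by group⟩
  have hQK : ∀ a ∈ Q, a ≠ 1 → a ∈ K := fun a ha ha1 => ⟨a, ha, ha1, 1, by group⟩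
  have hQgK : ∀ x : G, ∀ a ∈ cj x Q, a ≠ 1 → a ∈ K := fun x a ha ha1 =>
    ⟨_, mem_cj.1 ha, fun e => ha1 (by
      calc a = x * (x⁻¹ * a * x) * x⁻¹ := by group
        _ = 1 := by rw [e]; group), x, by group⟩
  -- consequences of the hypothesis on `Y`
  have hYn : ∀ y t, PP y → t ∈ K → t * y * t⁻¹ = y⁻¹ →
      ∀ H : Subgroup G, IsPGroup 2 H → cj y H = H → H = ⊥ := by
    rintro y t hy ⟨a, ha, ha1, g, rfl⟩ ht
    exact (hY y hy a ha ha1 g ht).1
  have hYc : ∀ y t, PP y → t ∈ K → t * y * t⁻¹ = y⁻¹ →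
      ∀ (e : G) (n : ℕ), e * y = y * e → e ^ 2 ^ n = 1 → e = 1 := by
    intro y t hy ht hty e n he hen
    have h1 := hYn y t hy ht hty _ (isPGroup_zpowers_two hen)
      (by rw [cj_zpowers, ← he]; group)
    exact Subgroup.zpowers_eq_bot.1 h1
  -- an element of `K` lying in a conjugate of `P` lies in the conjugate of `Q`
  have key : ∀ t ∈ K, ∀ x : G, t ∈ cj x P → t ∈ cj x Q := by
    intro t ht x htx
    obtain ⟨y, hy, hty⟩ := exists_PP_inverted (hKinv t ht) (hKne t ht) hO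
    obtain ⟨a, ha, ha1, g, htg⟩ := id ht
    subst htg
    have hY2 := (hY y hy a ha ha1 g hty).2
    obtain ⟨c1, m1, hc1, hm1, rfl⟩ := hY2 g
    obtain ⟨c2, m2, hc2, hm2, rfl⟩ := hY2 x
    set q1 := m1 * a * m1⁻¹ with hq1
    have hq1Q : q1 ∈ Q := by
      rw [← hMQ m1 hm1, mem_cj, hq1]
      simpa [mul_assoc] using ha
    rw [← cj_cj, hMQ m2 hm2]
    rw [← cj_cj, hMP m2 hm2] at htx
    set t := c1 * m1 * a * (c1 * m1)⁻¹ with htdef
    set t' := c2 * q1 * c2⁻¹ with ht'def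
    have ht'Q : t' ∈ cj c2 Q := by rw [mem_cj, ht'def]; simpa [mul_assoc] using hq1Q
    set d := c2 * c1⁻¹ with hd
    have hdy : Commute d y := Commute.mul_left hc2 (Commute.inv_left hc1)
    have ht't : t' = d * t * d⁻¹ := by rw [ht'def, hd, htdef, hq1]; group
    have ht'y : t' * y * t'⁻¹ = y⁻¹ := by
      rw [ht't]
      calc d * t * d⁻¹ * y * (d * t * d⁻¹)⁻¹ = d * t * (d⁻¹ * y * d) * t⁻¹ * d⁻¹ := by group
        _ = d * (t * y * t⁻¹) * d⁻¹ := by rw [(hdy.inv_left).eq]; group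
        _ = y⁻¹ := by rw [hty, (hdy.inv_right).eq]; group
    have hcomm : t' * t = t * t' := by
      have h1 := hQc _ (mem_cj.1 ht'Q) _ (mem_cj.1 htx)
      calc t' * t = c2 * ((c2⁻¹ * t' * c2) * (c2⁻¹ * t * c2)) * c2⁻¹ := by group
        _ = t * t' := by rw [h1]; group
    have he : (t' * t) * y = y * (t' * t) := by
      calc t' * t * y = t' * (t * y * t⁻¹) * t := by group
        _ = t' * y⁻¹ * t'⁻¹ * (t' * t) := by rw [hty]; group
        _ = y * (t' * t) := by rw [← conj_inv, ht'y, inv_inv]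
    have he2 : (t' * t) ^ 2 ^ 1 = 1 := by
      rw [pow_one, pow_two]
      calc t' * t * (t' * t) = t' * t * (t * t') := by rw [hcomm]
        _ = t' * (t * t) * t' := by group
        _ = 1 := by
          rw [hKinv _ ht, mul_one, ht'def]
          exact invol_conj (hQ2 _ hq1Q) c2
    have h1 := hYc y t hy ht hty _ 1 he he2
    have htt : t = t' := by
      calc t = (t' * t') * t := by
            rw [ht'def, invol_conj (hQ2 _ hq1Q) c2, one_mul]
        _ = t' := by rw [mul_assoc, h1, mul_one]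
    rw [htt]
    exact ht'Q
  have hQcomm : ∀ x : G, ∀ a ∈ cj x Q, ∀ b ∈ cj x Q, a * b = b * a := by
    intro x a ha b hb
    have h1 := hQc _ (mem_cj.1 ha) _ (hQP (mem_cj.1 hb))
    calc a * b = x * ((x⁻¹ * a * x) * (x⁻¹ * b * x)) * x⁻¹ := by group
      _ = b * a := by rw [h1]; group
  -- two elements of `K` commute or an element of odd order inverted by the first
  have dich : ∀ a ∈ K, ∀ b ∈ K, a * b = b * a ∨
      ∃ y : G, PP y ∧ y ∈ Subgroup.zpowers (a * b) ∧ a * y * a⁻¹ = y⁻¹ ∧ Odd (orderOf (a * b)) := by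
    intro a ha b hb
    set w := a * b with hw
    have hinv : a * w * a⁻¹ = w⁻¹ := inv_mul_invol (hKinv a ha) (hKinv b hb)
    obtain ⟨k, m, hm, hkm⟩ := Nat.exists_eq_two_pow_mul_odd (orderOf_pos w).ne'
    have ho : orderOf (w ^ 2 ^ k) = m := by
      rw [orderOf_pow_of_dvd (by positivity) (hkm ▸ dvd_mul_right _ _), hkm,
        Nat.mul_div_cancel_left _ (by positivity)]
    by_cases h1 : w ^ 2 ^ k = 1
    · left
      have hsup : IsPGroup 2 ↥(Subgroup.zpowers a ⊔ Subgroup.zpowers w) := by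
        refine IsPGroup.to_sup_of_normal_right'
          (isPGroup_zpowers_two (n := 1) (by rw [pow_one, pow_two, hKinv a ha]))
          (isPGroup_zpowers_two h1) ?_
        rw [Subgroup.zpowers_le]
        refine mem_normalizer_of_cj_eq ?_
        rw [cj_zpowers, hinv, Subgroup.zpowers_inv]
      obtain ⟨g, hg⟩ := hS _ hsup
      have haP : a ∈ cj g P := hg (Subgroup.mem_sup_left (Subgroup.mem_zpowers a))
      have hbP : b ∈ cj g P := by
        have h2 := mul_mem (inv_mem haP) (hg (Subgroup.mem_sup_right (Subgroup.mem_zpowers w)))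
        rwa [hw, inv_mul_cancel_left] at h2
      exact hQcomm g a (key a ha g haP) b (key b hb g hbP)
    · right
      obtain ⟨j, hj⟩ := exists_PP_pow h1 (ho ▸ hm)
      have hy := inv_pow_of_inv (inv_pow_of_inv hinv (2 ^ k)) j
      have hmem : (w ^ 2 ^ k) ^ j ∈ Subgroup.zpowers w :=
        pow_mem (pow_mem (Subgroup.mem_zpowers w) _) _
      refine ⟨_, hj, hmem, hy, ?_⟩
      have hwm : (w ^ m) ^ 2 ^ k = 1 := by rw [← pow_mul, mul_comm, ← hkm, pow_orderOf_eq_one]
      have h2 := hYc _ a hj ha hy (w ^ m) k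
        ((((Commute.refl w).pow_left m).pow_right (2 ^ k)).pow_right j) hwm
      exact Odd.of_dvd_nat hm (orderOf_dvd_of_pow_eq_one h2)
  -- commuting is transitive on `K`
  have trans' : ∀ a ∈ K, ∀ b ∈ K, ∀ c ∈ K, a * b = b * a → a * c = c * a → b * c = c * b := by
    intro a ha b hb c hc hab hac
    rcases dich b hb c hc with h | ⟨y, hy, hyw, hby, -⟩
    · exact h
    · exfalso
      obtain ⟨i, rfl⟩ := Subgroup.mem_zpowers_iff.1 hyw
      exact hKne a ha (hYc _ b hy hb hby a 1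
        (((show Commute a b from hab).mul_right hac).zpow_right i)
        (by rw [pow_one, pow_two, hKinv a ha]))
  -- an element of `K` commuting with one of `Q^#` lies in `Q`
  have classQ : ∀ b ∈ K, ∀ a ∈ Q, a ≠ 1 → a * b = b * a → b ∈ Q := by
    intro b hb a ha ha1 hab
    have hbQ : ∀ q ∈ Q, q * b = b * q := by
      intro q hq
      by_cases hq1 : q = 1
      · rw [hq1, one_mul, mul_one]
      · exact trans' a (hQK a ha ha1) q (hQK q hq hq1) b hb
          (hQc a ha q (hQP hq)) hab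
    have hsup : IsPGroup 2 ↥(Subgroup.zpowers b ⊔ Q) := by
      refine IsPGroup.to_sup_of_normal_right'
        (isPGroup_zpowers_two (n := 1) (by rw [pow_one, pow_two, hKinv b hb])) (hP2.to_le hQP) ?_
      rw [Subgroup.zpowers_le]
      refine Subgroup.mem_normalizer_iff.2 fun h => ⟨fun hh => ?_, fun hh => ?_⟩
      · rwa [← hbQ h hh, mul_inv_cancel_right]
      · have h1 := hbQ _ hh
        have h2 : b * h * b⁻¹ = h := by
          have : b⁻¹ * (b * h * b⁻¹ * b) = b⁻¹ * (b * (b * h * b⁻¹)) := by rw [h1]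
          calc b * h * b⁻¹ = b⁻¹ * (b * (b * h * b⁻¹)) := by group
            _ = h := by rw [← this]; group
        rwa [h2] at hh
    obtain ⟨g, hg⟩ := hS _ hsup
    have hle : Q ≤ cj g Q := by
      intro q hq
      by_cases hq1 : q = 1
      · rw [hq1]; exact one_mem _
      · exact key q (hQK q hq hq1) g (hg (Subgroup.mem_sup_right hq))
    have heq : Q = cj g Q := Subgroup.eq_of_le_of_card_ge hle (card_cj g Q).le
    rw [heq]
    exact key b hb g (hg (Subgroup.mem_sup_left (Subgroup.mem_zpowers b)))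
  have classQg : ∀ x : G, ∀ b ∈ K, ∀ a ∈ cj x Q, a ≠ 1 → a * b = b * a → b ∈ cj x Q := by
    intro x b hb a ha ha1 hab
    rw [mem_cj]
    refine classQ _ (by simpa using hKconj b hb x⁻¹) _ (mem_cj.1 ha) (fun e => ha1 ?_) ?_
    · calc a = x * (x⁻¹ * a * x) * x⁻¹ := by group
        _ = 1 := by rw [e]; group
    · calc x⁻¹ * a * x * (x⁻¹ * b * x) = x⁻¹ * (a * b) * x := by group
        _ = x⁻¹ * b * x * (x⁻¹ * a * x) := by rw [hab]; group
  have disj : ∀ x x' : G, ∀ b, b ∈ cj x Q → b ∈ cj x' Q → b ≠ 1 → cj x Q = cj x' Q := by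
    intro x x' b hb hb' hb1
    refine Subgroup.eq_of_le_of_card_ge (fun q hq => ?_) (by rw [card_cj, card_cj])
    by_cases hq1 : q = 1
    · rw [hq1]; exact one_mem _
    · exact classQg x' q (hQgK x q hq hq1) b hb' hb1 (hQcomm x b hb q hq)
  -- an element of `K` normalising `Q` lies in `Q`
  have normQ : ∀ b ∈ K, cj b Q = Q → b ∈ Q := by
    intro b hb hbn
    obtain ⟨q, hq, hq1⟩ : ∃ q ∈ Q, q ≠ 1 := by
      by_contra hc
      push Not at hc
      rw [Subgroup.eq_bot_iff_forall Q |>.2 hc, Subgroup.card_bot] at hQ3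
      omega
    by_cases hc : q * b = b * q
    · exact classQ b hb q hq hq1 hc
    have hb' : b⁻¹ = b := inv_eq_of_mul_eq_one_right (hKinv b hb)
    have hbq : b * q * b ∈ Q := by
      have h1 : b * q * b⁻¹ ∈ Q :=
        (Subgroup.mem_normalizer_iff.1 (mem_normalizer_of_cj_eq hbn) q).1 hq
      rwa [hb'] at h1
    refine classQ b hb (q * (b * q * b)) (mul_mem hq hbq) (fun e => hc ?_) ?_
    · have h1 : b * q * b = q := by
        rw [← inv_eq_of_mul_eq_one_right e, inv_eq_of_mul_eq_one_right (hQ2 q hq)]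
      calc q * b = b * q * b * b := by rw [h1]
        _ = b * q := by rw [mul_assoc, hKinv b hb, mul_one]
    · calc q * (b * q * b) * b = q * b * q * (b * b) := by group
        _ = (b * b) * (q * b * q) := by rw [hKinv b hb, one_mul, mul_one]
        _ = b * (b * q * b * q) := by group
        _ = b * (q * (b * q * b)) := by rw [hQc _ hbq q (hQP hq)]
  -- collisions are impossible
  have inj : ∀ t ∈ K, ∀ t' ∈ K, t ∉ Q → t' ∉ Q → cj t Q = cj t' Q → t = t' := by
    intro t ht t' ht' htQ ht'Q he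
    by_contra hne
    have hwn : cj (t * t') Q = Q := by
      rw [← cj_cj, ← he, cj_cj, hKinv t ht, cj_one]
    rcases dich t ht t' ht' with hc | ⟨y, hy, hyw, hty, -⟩
    · obtain ⟨a, ha, ha1, g, htg⟩ := id ht
      have htg' : t ∈ cj g Q := by rw [mem_cj, htg]; simpa [mul_assoc] using ha
      have ht'g := classQg g t' ht' t htg' (hKne t ht) hc
      have hw1 : t * t' ≠ 1 := fun e => hne (by
        rw [← inv_eq_of_mul_eq_one_right e, inv_eq_of_mul_eq_one_right (hKinv t ht)])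
      have hwK := hQgK g _ (mul_mem htg' ht'g) hw1
      have hwQ := normQ _ hwK hwn
      have h1 := disj g 1 _ (mul_mem htg' ht'g) (by rw [cj_one]; exact hwQ) hw1
      rw [cj_one] at h1
      exact htQ (h1 ▸ htg')
    · obtain ⟨i, rfl⟩ := Subgroup.mem_zpowers_iff.1 hyw
      have hyn : cj ((t * t') ^ i) Q = Q :=
        cj_eq_of_mem_normalizer (zpow_mem (mem_normalizer_of_cj_eq hwn) i)
      have := hYn _ t hy ht hty Q (hP2.to_le hQP) hyn
      rw [this, Subgroup.card_bot] at hQ3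
      omega
  -- counting
  let Q' := {A : Subgroup G // A ≠ Q ∧ ∃ x : G, A = cj x Q}
  haveI : Finite Q' := Subtype.finite
  by_cases hnorm : ∀ x : G, cj x Q = Q
  · have hQn : Q.Normal := ⟨fun n hn g => by
      rw [← hnorm g, mem_cj]; simpa [mul_assoc] using hn⟩
    have := hO Q hQn (hP2.to_le hQP)
    rw [this, Subgroup.card_bot] at hQ3
    omega
  push Not at hnorm
  obtain ⟨x₀, hx₀⟩ := hnorm
  haveI : Nonempty Q' := ⟨⟨_, hx₀, x₀, rfl⟩⟩
  let rep : Q' → G := fun A => A.2.2.choose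
  have hrep : ∀ A : Q', A.1 = cj (rep A) Q := fun A => A.2.2.choose_spec
  have hmem : ∀ (A : Q') (q : {q : Q // (q : G) ≠ 1}),
      rep A * (q.1 : G) * (rep A)⁻¹ ∈ K ∧ rep A * (q.1 : G) * (rep A)⁻¹ ∈ A.1 ∧
        rep A * (q.1 : G) * (rep A)⁻¹ ∉ Q := by
    intro A q
    have h2 : rep A * (q.1 : G) * (rep A)⁻¹ ∈ A.1 := by
      rw [hrep A, mem_cj]; simpa [mul_assoc] using q.1.2
    refine ⟨⟨_, q.1.2, q.2, rep A, rfl⟩, h2, fun hQ => A.2.1 ?_⟩
    rw [hrep A] at h2 ⊢
    have := disj (rep A) 1 _ h2 (by rw [cj_one]; exact hQ) (fun e => q.2 (conj_eq_one_iff.1 e))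
    rwa [cj_one] at this
  let f : Q' × {q : Q // (q : G) ≠ 1} → Q' := fun p =>
    ⟨cj (rep p.1 * (p.2.1 : G) * (rep p.1)⁻¹) Q,
      fun e => (hmem p.1 p.2).2.2 (normQ _ (hmem p.1 p.2).1 e), _, rfl⟩
  have hf : Function.Injective f := by
    rintro ⟨A, q⟩ ⟨B, q'⟩ e
    have hA := hmem A q
    have hB := hmem B q'
    have ht := inj _ hA.1 _ hB.1 hA.2.2 hB.2.2 (congrArg Subtype.val e)
    obtain rfl : A = B := by
      apply Subtype.ext
      rw [hrep A, hrep B]
      refine disj _ _ _ (hrep A ▸ hA.2.1) ?_ (fun e => q.2 (conj_eq_one_iff.1 e))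
      rw [← hrep B, ht]
      exact hB.2.1
    obtain rfl : q = q' :=
      Subtype.ext (Subtype.ext (mul_left_cancel (mul_right_cancel ht)))
    rfl
  have h1 := Nat.card_le_card_of_injective f hf
  rw [Nat.card_prod] at h1
  have h2 : Nat.card {q : Q // (q : G) ≠ 1} ≤ 1 :=
    Nat.le_of_mul_le_mul_left (by rwa [mul_one]) Nat.card_pos
  obtain ⟨⟨a, ha⟩, hQ1⟩ : ∃ a : Q, a ≠ 1 := by
    haveI : Nontrivial Q := Finite.one_lt_card_iff_nontrivial.1 (by omega)
    exact exists_ne 1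
  have : Subsingleton {q : Q // (q : G) ≠ 1} := Finite.card_le_one_iff_subsingleton.1 h2
  have hall : ∀ q : Q, q = 1 ∨ q = ⟨a, ha⟩ := fun q => by
    by_cases hq : (q : G) = 1
    · exact Or.inl (Subtype.ext hq)
    · exact Or.inr (congrArg Subtype.val (Subsingleton.elim
        (⟨q, hq⟩ : {q : Q // (q : G) ≠ 1}) ⟨⟨a, ha⟩, fun e => hQ1 (Subtype.ext e)⟩))
  classical
  haveI := Fintype.ofFinite Q
  have h3 : Nat.card Q ≤ 2 := by
    rw [Nat.card_eq_fintype_card, ← Finset.card_univ]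
    exact (Finset.card_le_card (t := {1, ⟨a, ha⟩}) fun q _ => by
      rcases hall q with h | h <;> simp [h]).trans Finset.card_le_two
  omega

end Cfsg.Agent.RealClassDisc
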