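import Cfsg.Agent.Lib.RealClassDisc.Core

/-!
Real class sizes with disconnected prime graph (S4187): reduction to the pigeonhole core.

`G` has no nontrivial soluble normal subgroup, a subgroup `M` normalising a Sylow 2-subgroup `S`, and
`G = C(y) M` for the odd prime-power elements `y` inverted by an involution. With `U` the elements of
order at most 2 in `Z(S)` and `D` a largest 2-subgroup normalised by such a `y` inverted by a conjugate
of an element of `U`, the group `N(D)/D` satisfies the hypotheses of the core.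
-/

set_option autoImplicit false

namespace Cfsg.Agent.RealClassDisc

open scoped commutatorElement

universe u

variable {G : Type u} [Group G]

/-- The elements of order at most two in the centre of `S`. -/
def omegaCenter (S : Subgroup G) : Subgroup G where
  carrier := {u | u ∈ S ∧ u * u = 1 ∧ ∀ s ∈ S, u * s = s * u}
  one_mem' := ⟨one_mem _, one_mul 1, fun s _ => by rw [one_mul, mul_one]⟩
  mul_mem' := by
    rintro a b ⟨ha, ha2, hac⟩ ⟨hb, hb2, hbc⟩
    refine ⟨mul_mem ha hb, ?_, fun s hs => ?_⟩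
    · calc a * b * (a * b) = a * (b * a) * b := by group
        _ = (a * a) * (b * b) := by rw [← hac b hb]; group
        _ = 1 := by rw [ha2, hb2, one_mul]
    · calc a * b * s = a * (s * b) := by rw [mul_assoc, hbc s hs]
        _ = s * (a * b) := by rw [← mul_assoc, hac s hs, mul_assoc]
  inv_mem' := by
    rintro a ⟨ha, ha2, hac⟩
    rw [show a⁻¹ = a from inv_eq_of_mul_eq_one_right ha2]
    exact ⟨ha, ha2, hac⟩

theorem mem_omegaCenter {S : Subgroup G} {u : G} :
    u ∈ omegaCenter S ↔ u ∈ S ∧ u * u = 1 ∧ ∀ s ∈ S, u * s = s * u := Iff.rfl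

theorem cj_omegaCenter_le {S : Subgroup G} {m : G} (hm : cj m S = S) :
    cj m (omegaCenter S) ≤ omegaCenter S := by
  rintro x hx
  obtain ⟨h1, h2, h3⟩ := mem_omegaCenter.1 (mem_cj.1 hx)
  refine mem_omegaCenter.2 ⟨hm ▸ mem_cj.2 h1, ?_, fun s hs => ?_⟩
  · calc x * x = m * (m⁻¹ * x * m * (m⁻¹ * x * m)) * m⁻¹ := by group
      _ = 1 := by rw [h2]; group
  · have hs' : m⁻¹ * s * m ∈ S := by
      have : s ∈ cj m S := hm.symm ▸ hs
      exact mem_cj.1 this
    calc x * s = m * ((m⁻¹ * x * m) * (m⁻¹ * s * m)) * m⁻¹ := by group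
      _ = s * x := by rw [h3 _ hs']; group

theorem cj_omegaCenter [Finite G] {S : Subgroup G} {m : G} (hm : cj m S = S) :
    cj m (omegaCenter S) = omegaCenter S :=
  Subgroup.eq_of_le_of_card_ge (cj_omegaCenter_le hm) (card_cj m _).ge

theorem omegaCenter_ne_bot [Finite G] {S : Subgroup G} (hS : IsPGroup 2 S) (hne : S ≠ ⊥) :
    omegaCenter S ≠ ⊥ := by
  haveI : Fact (Nat.Prime 2) := ⟨Nat.prime_two⟩
  haveI : Nontrivial S := (Subgroup.nontrivial_iff_ne_bot S).2 hne
  haveI := hS.center_nontrivial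
  obtain ⟨k, hk⟩ := IsPGroup.iff_card.1 (hS.to_subgroup (Subgroup.center S))
  have h1 := Finite.one_lt_card_iff_nontrivial.2 (inferInstance : Nontrivial (Subgroup.center S))
  have hd : 2 ∣ Nat.card (Subgroup.center S) := by
    rw [hk]
    exact dvd_pow_self 2 (fun e => by rw [hk, e, pow_zero] at h1; omega)
  obtain ⟨c, hc⟩ := exists_prime_orderOf_dvd_card' 2 hd
  intro e
  have hmem : ((c : S) : G) ∈ omegaCenter S := by
    refine mem_omegaCenter.2 ⟨(c : S).2, ?_, fun s hs => ?_⟩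
    · have h2 := pow_orderOf_eq_one c
      rw [hc, pow_two] at h2
      simpa using congrArg (fun z : Subgroup.center S => ((z : S) : G)) h2
    · exact (congrArg (fun z : S => (z : G)) ((Subgroup.mem_center_iff.1 c.2) ⟨s, hs⟩)).symm
  rw [e, Subgroup.mem_bot] at hmem
  have : c = 1 := Subtype.ext (Subtype.ext hmem)
  rw [this, orderOf_one] at hc
  omega

theorem exists_le_cj [Finite G] {p : ℕ} [Fact p.Prime] (S : Sylow p G) {H : Subgroup G}
    (hH : IsPGroup p H) : ∃ g : G, H ≤ cj g (S : Subgroup G) := by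
  obtain ⟨P, hP⟩ := hH.exists_le_sylow
  obtain ⟨g, rfl⟩ := MulAction.exists_smul_eq G S P
  exact ⟨g, hP⟩

/-- A group in which every commutator centralises the group has an abelian derived group. -/
theorem isSolvable_of_commutator_central (A : Subgroup G)
    (h : ∀ a ∈ A, ∀ b ∈ A, ∀ c ∈ A, ⁅a, b⁆ * c = c * ⁅a, b⁆) : Group.IsSolvable A := by
  have hc : commutator A ≤ Subgroup.center A := by
    rw [commutator_def, Subgroup.commutator_le]
    intro a _ b _
    refine Subgroup.mem_center_iff.2 fun c => Subtype.ext ?_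
    simpa [commutatorElement_def] using (h a a.2 b b.2 c c.2).symm
  haveI : Group.IsSolvable (commutator A) :=
    Group.isSolvable_of_comm fun a b =>
      Subtype.ext (Subgroup.mem_center_iff.1 (hc b.2) a)
  refine Group.isSolvable_of_ker_le_range (commutator A).subtype
    (Abelianization.of (G := A)) ?_
  rw [Subgroup.range_subtype, Abelianization.ker_of]

/-- The local lemma. -/
theorem false_of_factor [Finite G] (M : Subgroup G) (S : Sylow 2 G)
    (hMS : ∀ m ∈ M, cj m (S : Subgroup G) = S)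
    (hrad : ∀ N : Subgroup G, N.Normal → Group.IsSolvable N → N = ⊥) (h2 : 2 ∣ Nat.card G)
    (hfac : ∀ y : G, PP y → ∀ t : G, t * t = 1 → t * y * t⁻¹ = y⁻¹ →
      ∀ x : G, ∃ c m : G, c * y = y * c ∧ m ∈ M ∧ x = c * m) : False := by
  haveI : Fact (Nat.Prime 2) := ⟨Nat.prime_two⟩
  have hO2 : ∀ N : Subgroup G, N.Normal → IsPGroup 2 N → N = ⊥ := fun N hN hN2 => by
    haveI := hN2.isNilpotent
    exact hrad N hN inferInstance
  set U := omegaCenter (S : Subgroup G) with hU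
  have hUS : U ≤ (S : Subgroup G) := fun u hu => (mem_omegaCenter.1 hu).1
  have hU2 : ∀ u ∈ U, u * u = 1 := fun u hu => (mem_omegaCenter.1 hu).2.1
  have hUc : ∀ u ∈ U, ∀ s ∈ (S : Subgroup G), u * s = s * u := fun u hu => (mem_omegaCenter.1 hu).2.2
  have hMU : ∀ m ∈ M, cj m U = U := fun m hm => cj_omegaCenter (hMS m hm)
  let IsY : G → Prop := fun y =>
    PP y ∧ ∃ u ∈ U, u ≠ 1 ∧ ∃ g : G, (g * u * g⁻¹) * y * (g * u * g⁻¹)⁻¹ = y⁻¹
  have hfacY : ∀ y, IsY y → ∀ x : G, ∃ c m : G, c * y = y * c ∧ m ∈ M ∧ x = c * m := by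
    rintro y ⟨hy, u, hu, -, g, hg⟩
    exact hfac y hy _ (invol_conj (hU2 u hu) g) hg
  have hYconj : ∀ y, IsY y → ∀ g : G, IsY (g * y * g⁻¹) := by
    rintro y ⟨hy, u, hu, hu1, g', hg⟩ g
    refine ⟨hy.conj g, u, hu, hu1, g * g', ?_⟩
    calc g * g' * u * (g * g')⁻¹ * (g * y * g⁻¹) * (g * g' * u * (g * g')⁻¹)⁻¹
        = g * ((g' * u * g'⁻¹) * y * (g' * u * g'⁻¹)⁻¹) * g⁻¹ := by group
      _ = (g * y * g⁻¹)⁻¹ := by rw [hg]; group
  -- some element of `U` inverts each element of `Y`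
  have hinvU : ∀ y, IsY y → ∃ t ∈ U, t * y * t⁻¹ = y⁻¹ := by
    intro y hY
    obtain ⟨hy, u, hu, -, g, hg⟩ := id hY
    obtain ⟨c, m, hc, hm, rfl⟩ := hfacY y hY g
    have hcy : c⁻¹ * y * c = y := by rw [mul_assoc, ← hc, inv_mul_cancel_left]
    refine ⟨m * u * m⁻¹, ?_, ?_⟩
    · rw [← hMU m hm, mem_cj]; simpa [mul_assoc] using hu
    · calc m * u * m⁻¹ * y * (m * u * m⁻¹)⁻¹
          = c⁻¹ * ((c * m * u * (c * m)⁻¹) * (c * y * c⁻¹) * (c * m * u * (c * m)⁻¹)⁻¹) * c := by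
            group
        _ = c⁻¹ * y⁻¹ * c := by rw [show c * y * c⁻¹ = y by rw [hc, mul_inv_cancel_right], hg]
        _ = (c⁻¹ * y * c)⁻¹ := by group
        _ = y⁻¹ := by rw [hcy]
  -- (A)
  have hA : ∀ y, IsY y → ∀ H : Subgroup G, H ≤ (S : Subgroup G) → cj y H = H → U ≤ H → False := by
    intro y hY H hH hyH hUH
    obtain ⟨t, ht, hty⟩ := hinvU y hY
    have ht2 := hU2 t ht
    have h1 : y * t * y⁻¹ ∈ H := by
      rw [← hyH, mem_cj]; simpa [mul_assoc] using hUH ht
    have hc := hUc t ht _ (hH h1)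
    have he : (t * (y * t * y⁻¹)) * (t * (y * t * y⁻¹)) = 1 := by
      calc t * (y * t * y⁻¹) * (t * (y * t * y⁻¹)) = t * (y * t * y⁻¹) * ((y * t * y⁻¹) * t) := by
            rw [hc]
        _ = t * (y * (t * t) * y⁻¹) * t := by group
        _ = 1 := by rw [ht2, mul_one, mul_inv_cancel, mul_one, ht2]
    have htt : t⁻¹ = t := inv_eq_of_mul_eq_one_right ht2
    have hy2 : t * (y * t * y⁻¹) = (y ^ 2)⁻¹ := by
      calc t * (y * t * y⁻¹) = t * y * t * y⁻¹ := by group
        _ = t * y * t⁻¹ * y⁻¹ := by rw [htt]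
        _ = (y ^ 2)⁻¹ := by rw [hty]; group
    rw [hy2, ← mul_inv_rev, inv_eq_one, ← pow_add] at he
    exact hY.1.1 (eq_one_of_odd hY.1.odd (n := 2) he)
  have hUne : U ≠ ⊥ := omegaCenter_ne_bot S.2 (S.ne_bot_of_dvd_card h2)
  obtain ⟨u₀, hu₀, hu₀1⟩ : ∃ u ∈ U, u ≠ 1 := by
    by_contra hc
    push Not at hc
    exact hUne ((Subgroup.eq_bot_iff_forall U).2 hc)
  -- the largest 2-subgroup normalised by an element of `Y`
  obtain ⟨y₁, hy₁, hy₁i⟩ := exists_PP_inverted (hU2 u₀ hu₀) hu₀1 hO2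
  have hne : {H : Subgroup G | IsPGroup 2 H ∧ ∃ y, IsY y ∧ cj y H = H}.Nonempty :=
    ⟨⊥, IsPGroup.of_bot, y₁, ⟨hy₁, u₀, hu₀, hu₀1, 1, by simpa using hy₁i⟩, Subgroup.map_bot _⟩
  obtain ⟨D₀, ⟨hD₀, y₂, hy₂, hy₂D⟩, hmax⟩ :=
    Set.exists_max_image _ (fun H : Subgroup G => Nat.card H) (Set.toFinite _) hne
  obtain ⟨g₀, hg₀⟩ := exists_le_cj S hD₀
  set D := cj g₀⁻¹ D₀ with hD
  have hDS : D ≤ (S : Subgroup G) := by
    refine (cj_mono g₀⁻¹ hg₀).trans (le_of_eq ?_)
    rw [cj_cj, inv_mul_cancel, cj_one]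
  have hD2 : IsPGroup 2 D := isPGroup_cj _ hD₀
  set y₀ := g₀⁻¹ * y₂ * g₀⁻¹⁻¹ with hy₀
  have hy₀Y : IsY y₀ := hYconj y₂ hy₂ _
  have hy₀D : cj y₀ D = D := by
    rw [hD, hy₀, cj_cj, show g₀⁻¹ * y₂ * g₀⁻¹⁻¹ * g₀⁻¹ = g₀⁻¹ * y₂ by group, ← cj_cj, hy₂D]
  have hmaxD : ∀ y, IsY y → ∀ H : Subgroup G, IsPGroup 2 H → cj y H = H → D ≤ H → H = D :=
    fun y hy H hH hyH hDH => (Subgroup.eq_of_le_of_card_ge hDH (by
      rw [hD, card_cj]; exact hmax H ⟨hH, y, hy, hyH⟩)).symm
  have huniq : ∀ y, IsY y → cj y D = D → ∀ D' : Subgroup G, cj y D' = D' →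
      D' ≤ (S : Subgroup G) → Nat.card D' = Nat.card D → D' = D := by
    intro y hy hyD D' hyD' hD'S hc
    have hL : D ⊔ D' = D := hmaxD y hy _ (S.2.to_le (sup_le hDS hD'S)) (by
      show (D ⊔ D').map _ = _
      rw [Subgroup.map_sup]
      exact congrArg₂ (· ⊔ ·) hyD hyD') le_sup_left
    exact Subgroup.eq_of_le_of_card_ge (sup_eq_left.1 hL) hc.ge
  have hfacD : ∀ y, IsY y → cj y D = D → ∀ x : G, cj x D = D →
      ∃ c m : G, c * y = y * c ∧ m ∈ M ∧ x = c * m ∧ cj c D = D ∧ cj m D = D := by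
    intro y hy hyD x hx
    obtain ⟨c, m, hc, hm, rfl⟩ := hfacY y hy x
    have hD' : cj c⁻¹ D = cj m D := by
      conv_lhs => rw [← hx]
      rw [cj_cj, inv_mul_cancel_left]
    have hcy : y * c⁻¹ = c⁻¹ * y := ((show Commute c y from hc).inv_left.eq).symm
    have hm' : cj m D = D := huniq y hy hyD _
      (by rw [← hD', cj_cj, hcy, ← cj_cj, hyD])
      ((cj_mono m hDS).trans (hMS m hm).le) (card_cj m D)
    exact ⟨c, m, hc, hm, rfl, by rwa [← cj_cj, hm'] at hx, hm'⟩
  -- Sylow subgroups of `N(D)`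
  have hsyl : ∀ H : Subgroup G, IsPGroup 2 H → D ≤ H →
      ∃ c : G, cj c D = D ∧ H ≤ cj c (S : Subgroup G) := by
    intro H hH hDH
    obtain ⟨x, hx⟩ := exists_le_cj S hH
    obtain ⟨c, m, hc, hm, rfl⟩ := hfacY y₀ hy₀Y x
    rw [← cj_cj, hMS m hm] at hx
    have hcy : y₀ * c⁻¹ = c⁻¹ * y₀ := ((show Commute c y₀ from hc).inv_left.eq).symm
    have hD' : cj c⁻¹ D = D := huniq y₀ hy₀Y hy₀D _
      (by rw [cj_cj, hcy, ← cj_cj, hy₀D])
      ((cj_mono c⁻¹ (hDH.trans hx)).trans (by rw [cj_cj, inv_mul_cancel, cj_one]))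
      (card_cj _ D)
    exact ⟨c, by simpa using cj_inv_eq hD', hx⟩
  -- the quotient `N(D)/D`
  set N := Subgroup.normalizer (D : Set G) with hN
  have hNmem : ∀ {g : G}, g ∈ N ↔ cj g D = D :=
    fun {g} => ⟨cj_eq_of_mem_normalizer, mem_normalizer_of_cj_eq⟩
  haveI : (D.subgroupOf N).Normal := Subgroup.normal_in_normalizer
  set f := QuotientGroup.mk' (D.subgroupOf N) with hf
  have hf1 : ∀ x : N, f x = 1 ↔ (x : G) ∈ D := fun x =>
    (QuotientGroup.eq_one_iff x).trans Subgroup.mem_subgroupOf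
  have hUD : ∀ u ∈ U, ∀ d ∈ D, u * d = d * u := fun u hu d hd => hUc u hu d (hDS hd)
  have hUN : U ≤ N := fun u hu => Subgroup.mem_normalizer_iff.2 fun d => by
    refine ⟨fun hd => ?_, fun hd => ?_⟩
    · rwa [hUD u hu d hd, mul_inv_cancel_right]
    · have h1 := hUD u hu _ hd
      have h2 : u * d * u⁻¹ = d :=
        mul_left_cancel (a := u) (by rw [h1]; group)
      rwa [h2] at hd
  -- elements normalising a 2-subgroup of the quotient
  have hlift2 : ∀ y : N, IsY (y : G) → ∀ H : Subgroup (N ⧸ D.subgroupOf N), IsPGroup 2 H →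
      cj (f y) H = H → H = ⊥ := by
    intro y hy H hH hyH
    set H' := (H.comap f).map N.subtype with hH'
    have hH'2 : IsPGroup 2 H' := by
      refine (hH.comap_of_ker_isPGroup f ?_).map _
      rw [hf, QuotientGroup.ker_mk']
      exact hD2.comap_of_injective N.subtype N.subtype_injective
    have hDH' : D ≤ H' := fun d hd => ⟨⟨d, Subgroup.le_normalizer hd⟩, by
      show f _ ∈ H
      rw [(hf1 _).2 hd]; exact one_mem _, rfl⟩
    have hyH' : cj (y : G) H' = H' := by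
      ext x
      rw [mem_cj]
      constructor
      · rintro ⟨z, hz, he⟩
        refine ⟨y * z * y⁻¹, ?_, ?_⟩
        · show f _ ∈ H
          rw [← hyH, mem_cj, map_mul, map_mul, map_inv]
          simpa [mul_assoc] using (show f z ∈ H from hz)
        · have he' : (z : G) = (y : G)⁻¹ * x * y := he
          simp [he', mul_assoc]
      · rintro ⟨z, hz, rfl⟩
        refine ⟨y⁻¹ * z * y, ?_, by simp⟩
        show f _ ∈ H
        have hz' : f z ∈ cj (f y) H := hyH.symm ▸ (show f z ∈ H from hz)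
        simpa [mem_cj] using hz'
    have heq := hmaxD y hy H' hH'2 hyH' hDH'
    rw [eq_bot_iff]
    intro h hh
    obtain ⟨z, rfl⟩ := QuotientGroup.mk'_surjective _ h
    rw [Subgroup.mem_bot]
    exact (hf1 z).2 (heq ▸ ⟨z, hh, rfl⟩)
  -- lifting an inverted element
  have hlift : ∀ (u : G) (hu : u ∈ U) (g : N) (yb : N ⧸ D.subgroupOf N), PP yb → u ≠ 1 →
      (f (g * ⟨u, hUN hu⟩ * g⁻¹)) * yb * (f (g * ⟨u, hUN hu⟩ * g⁻¹))⁻¹ = yb⁻¹ →
      ∃ y : N, IsY (y : G) ∧ (∀ d ∈ D, (y : G) * d = d * y) ∧ f y ∈ Subgroup.zpowers yb ∧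
        yb ∈ Subgroup.zpowers (f y) ∧
        ((g : G) * u * (g : G)⁻¹) * y * ((g : G) * u * (g : G)⁻¹)⁻¹ = (y : G)⁻¹ ∧
        ∀ L : Subgroup G, L.Normal → U ≤ L → (y : G) ∈ L := by
    intro u hu g yb hyb hu1 hinv
    obtain ⟨hyb1, r, K, hr, hr2, hybr⟩ := hyb
    obtain ⟨w₀, hw₀⟩ := QuotientGroup.mk'_surjective (D.subgroupOf N) yb
    rw [← hf] at hw₀
    set t : N := g * ⟨u, hUN hu⟩ * g⁻¹ with ht
    have ht2 : t * t = 1 := by
      rw [ht, conj_mul, show (⟨u, hUN hu⟩ : N) * ⟨u, hUN hu⟩ = 1 from Subtype.ext (hU2 u hu)]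
      group
    set w : N := t * (w₀ * t * w₀⁻¹) with hw
    have hwinv : t * w * t⁻¹ = w⁻¹ := inv_mul_invol ht2 (invol_conj ht2 w₀)
    have hfw : f w = (yb ^ 2)⁻¹ := by
      rw [hw, map_mul f t, map_mul f _ w₀⁻¹, map_mul f w₀ t, map_inv, hw₀]
      have ht' : f t * f t = 1 := by rw [← map_mul, ht2, map_one]
      calc f t * (yb * f t * yb⁻¹) = f t * yb * (f t)⁻¹ * yb⁻¹ := by
            rw [inv_eq_of_mul_eq_one_right ht']; group
        _ = (yb ^ 2)⁻¹ := by rw [hinv]; group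
    obtain ⟨k, m, hm, hkm⟩ := Nat.exists_eq_two_pow_mul_odd (orderOf_pos w).ne'
    have hm0 : m ≠ 0 := fun e => by rw [e] at hm; exact absurd hm (by decide)
    set b := m / r ^ m.factorization r with hb
    have hyr : (w ^ (2 ^ k * b)) ^ r ^ m.factorization r = 1 := by
      rw [← pow_mul, mul_assoc, mul_comm b, Nat.ordProj_mul_ordCompl_eq_self, ← hkm,
        pow_orderOf_eq_one]
    set y : N := w ^ (2 ^ k * b) with hy
    have hfy : f y = (yb ^ (2 * (2 ^ k * b)))⁻¹ := by rw [hy, map_pow, hfw, inv_pow, ← pow_mul]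
    have hcop : (2 * (2 ^ k * b)).Coprime (orderOf yb) := by
      refine Nat.Coprime.coprime_dvd_right (orderOf_dvd_of_pow_eq_one hybr) ?_
      refine Nat.Coprime.pow_right K (Nat.Coprime.symm ((hr.coprime_iff_not_dvd).2 fun hd => ?_))
      have hr2' : ¬ r ∣ 2 := fun h => hr2 ((Nat.prime_dvd_prime_iff_eq hr Nat.prime_two).1 h)
      rcases (Nat.Prime.dvd_mul hr).1 hd with h | h
      · exact hr2' h
      · rcases (Nat.Prime.dvd_mul hr).1 h with h | h
        · exact hr2' (hr.dvd_of_dvd_pow h)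
        · exact Nat.not_dvd_ordCompl hr hm0 h
    have hzp : yb ∈ Subgroup.zpowers (f y) := by
      obtain ⟨i, hi⟩ := exists_pow_eq_self_of_coprime hcop
      have h1 := pow_mem (Subgroup.mem_zpowers (yb ^ (2 * (2 ^ k * b)))) i
      rw [hi] at h1
      rwa [hfy, Subgroup.zpowers_inv]
    have hy1 : (y : G) ≠ 1 := by
      intro e
      have hy' : y = 1 := Subtype.ext e
      rw [hy', map_one, Subgroup.zpowers_one_eq_bot, Subgroup.mem_bot] at hzp
      exact hyb1 hzp
    have htG : (t : G) = (g : G) * u * (g : G)⁻¹ := rfl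
    have hyinv : (t : G) * y * (t : G)⁻¹ = (y : G)⁻¹ :=
      congrArg (fun z : N => (z : G)) (inv_pow_of_inv hwinv (2 ^ k * b))
    refine ⟨y, ⟨⟨hy1, r, _, hr, hr2, congrArg (fun z : N => (z : G)) hyr⟩, u, hu, hu1, g, ?_⟩,
      ?_, ?_, hzp, ?_, ?_⟩
    · rw [← htG]; exact hyinv
    · have hcz : ∀ n : N, ∀ d ∈ D, Commute ((n : G) * u * (n : G)⁻¹) d := by
        intro n d hd
        have h1 : (n : G)⁻¹ * d * n ∈ D := ((Subgroup.mem_normalizer_iff''.1 n.2) d).1 hd
        show (n : G) * u * (n : G)⁻¹ * d = d * ((n : G) * u * (n : G)⁻¹)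
        calc (n : G) * u * (n : G)⁻¹ * d = n * (u * ((n : G)⁻¹ * d * n)) * (n : G)⁻¹ := by group
          _ = d * ((n : G) * u * (n : G)⁻¹) := by rw [hUD u hu _ h1]; group
      intro d hd
      have h2 : Commute ((w₀ * t * w₀⁻¹ : N) : G) d := by
        have := hcz (w₀ * g) d hd
        convert this using 1
        rw [ht]; simp [mul_assoc]
      exact (((hcz g d hd).mul_left h2).pow_left (2 ^ k * b)).eq
    · rw [hfy]; exact inv_mem (pow_mem (Subgroup.mem_zpowers _) _)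
    · rw [← htG]; exact hyinv
    · intro L hL hUL
      have h1 : (t : G) ∈ L := htG ▸ hL.conj_mem u (hUL hu) g
      exact pow_mem (mul_mem h1 (hL.conj_mem _ h1 (w₀ : G))) _
  -- the images
  set M' := (M.subgroupOf N).map f with hM'
  set P' := ((S : Subgroup G).subgroupOf N).map f with hP'
  set Q' := (U.subgroupOf N).map f with hQ'
  obtain ⟨u₁, hu₁, hu₁D⟩ : ∃ u ∈ U, u ∉ D := by
    by_contra hc
    push Not at hc
    exact hA y₀ hy₀Y D hDS hy₀D hc
  have hO' : ∀ H : Subgroup (N ⧸ D.subgroupOf N), H.Normal → IsPGroup 2 H → H = ⊥ := by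
    intro H hH hH2
    refine hlift2 ⟨y₀, hNmem.2 hy₀D⟩ hy₀Y H hH2 ?_
    ext x
    rw [mem_cj]
    exact ⟨fun h => by simpa [mul_assoc] using hH.conj_mem _ h (f ⟨y₀, hNmem.2 hy₀D⟩),
      fun h => by simpa using hH.conj_mem _ h (f ⟨y₀, hNmem.2 hy₀D⟩)⁻¹⟩
  have hcjmap : ∀ (m : N) (A : Subgroup G), cj (m : G) A = A →
      cj (f m) ((A.subgroupOf N).map f) = (A.subgroupOf N).map f := by
    intro m A hA
    ext x
    rw [mem_cj]
    constructor
    · rintro ⟨z, hz, he⟩
      refine ⟨m * z * m⁻¹, ?_, ?_⟩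
      · show (m : G) * z * (m : G)⁻¹ ∈ A
        rw [← hA, mem_cj]
        simpa [mul_assoc] using (show (z : G) ∈ A from hz)
      · rw [map_mul, map_mul, map_inv, he]; group
    · rintro ⟨z, hz, rfl⟩
      refine ⟨m⁻¹ * z * m, ?_, by rw [map_mul, map_mul, map_inv]⟩
      show (m : G)⁻¹ * z * m ∈ A
      have hz' : (z : G) ∈ cj (m : G) A := hA.symm ▸ (show (z : G) ∈ A from hz)
      exact mem_cj.1 hz'
  have hcard : 2 < Nat.card Q' := by
    by_contra hc
    push Not at hc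
    set a : N := ⟨u₁, hUN hu₁⟩
    have ha1 : f a ≠ 1 := fun e => hu₁D ((hf1 a).1 e)
    have haQ : f a ∈ Q' := Subgroup.mem_map_of_mem f (Subgroup.mem_subgroupOf.2 hu₁)
    obtain ⟨yb, hyb, hybi⟩ := exists_PP_inverted
      (by rw [← map_mul, show a * a = 1 from Subtype.ext (hU2 u₁ hu₁), map_one]) ha1 hO'
    obtain ⟨y, hyY, hyD, -, -, hyi, hyL⟩ := hlift u₁ hu₁ 1 yb hyb
      (fun e => hu₁D (e ▸ one_mem _)) (by simpa using hybi)
    simp only [Subgroup.coe_one, one_mul, inv_one, mul_one] at hyi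
    -- every element of `U` fixes or inverts `y`
    have hsmall : ∀ q ∈ Q', q = 1 ∨ q = f a := by
      intro q hq
      by_contra hcon
      push Not at hcon
      classical
      haveI := Fintype.ofFinite Q'
      have h3 : 3 ≤ Nat.card Q' := by
        rw [Nat.card_eq_fintype_card, ← Finset.card_univ]
        refine le_trans (le_of_eq ?_) (Finset.card_le_card
          (Finset.subset_univ ({1, ⟨f a, haQ⟩, ⟨q, hq⟩} : Finset Q')))
        rw [Finset.card_insert_of_notMem, Finset.card_pair]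
        · exact fun e => hcon.2 (congrArg Subtype.val e).symm
        · simp only [Finset.mem_insert, Finset.mem_singleton, not_or]
          exact ⟨fun e => ha1 (congrArg Subtype.val e).symm,
            fun e => hcon.1 (congrArg Subtype.val e).symm⟩
      omega
    have hUy : ∀ u ∈ U, u * y * u⁻¹ = (y : G) ∨ u * y * u⁻¹ = (y : G)⁻¹ := by
      intro u hu
      rcases hsmall _ (Subgroup.mem_map_of_mem f (Subgroup.mem_subgroupOf.2 (show
        ((⟨u, hUN hu⟩ : N) : G) ∈ U from hu))) with h | h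
      · exact Or.inl (by rw [← hyD u ((hf1 _).1 h), mul_inv_cancel_right])
      · right
        have hd : u * u₁⁻¹ ∈ D := by
          have := (hf1 (⟨u, hUN hu⟩ * a⁻¹)).1 (by rw [map_mul, map_inv, h, mul_inv_cancel])
          simpa using this
        have hd' := hyD _ hd
        calc u * (y : G) * u⁻¹ = u * u₁⁻¹ * (u₁ * y * u₁⁻¹) * (u * u₁⁻¹)⁻¹ := by group
          _ = ((u * u₁⁻¹) * (y : G) * (u * u₁⁻¹)⁻¹)⁻¹ := by rw [hyi]; group
          _ = (y : G)⁻¹ := by rw [← hd', mul_inv_cancel_right]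
    have hconjy : ∀ x : G, ∀ u ∈ U, x * u * x⁻¹ * y * (x * u * x⁻¹)⁻¹ = (y : G) ∨
        x * u * x⁻¹ * y * (x * u * x⁻¹)⁻¹ = (y : G)⁻¹ := by
      intro x u hu
      obtain ⟨c, m, hc', hm, rfl⟩ := hfacY _ hyY x
      have hcy : c * (y : G) * c⁻¹ = y := by rw [hc', mul_inv_cancel_right]
      have hu' : m * u * m⁻¹ ∈ U := by
        rw [← hMU m hm, mem_cj]; simpa [mul_assoc] using hu
      have e : c * m * u * (c * m)⁻¹ * (y : G) * (c * m * u * (c * m)⁻¹)⁻¹ =
          c * ((m * u * m⁻¹) * y * (m * u * m⁻¹)⁻¹) * c⁻¹ := by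
        conv_lhs => rw [← hcy]
        group
      rw [e]
      rcases hUy _ hu' with h | h <;> rw [h]
      · exact Or.inl hcy
      · exact Or.inr (by rw [← conj_inv, hcy])
    set L := Subgroup.normalClosure (U : Set G) with hL
    -- the subgroup fixing or inverting a conjugate of `y`
    have hLy : ∀ g : G, ∀ a ∈ L, a * (g * y * g⁻¹) * a⁻¹ = g * y * g⁻¹ ∨
        a * (g * y * g⁻¹) * a⁻¹ = (g * y * g⁻¹)⁻¹ := by
      intro g a ha
      induction ha using Subgroup.closure_induction with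
      | mem t ht =>
        obtain ⟨u, hu, htu⟩ := Group.mem_conjugatesOfSet_iff.1 ht
        obtain ⟨x, rfl⟩ := isConj_iff.1 htu
        have e : x * u * x⁻¹ * (g * y * g⁻¹) * (x * u * x⁻¹)⁻¹ =
            g * (g⁻¹ * x * u * (g⁻¹ * x)⁻¹ * y * (g⁻¹ * x * u * (g⁻¹ * x)⁻¹)⁻¹) * g⁻¹ := by group
        rw [e]
        rcases hconjy (g⁻¹ * x) u hu with h | h <;> rw [h]
        · exact Or.inl rfl
        · exact Or.inr (by group)
      | one => exact Or.inl (by group)
      | mul a b _ _ ha hb =>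
        rw [show a * b * (g * y * g⁻¹) * (a * b)⁻¹ = a * (b * (g * y * g⁻¹) * b⁻¹) * a⁻¹ by group]
        rcases hb with h | h <;> rw [h]
        · exact ha
        · rw [← conj_inv]
          rcases ha with h' | h' <;> rw [h']
          · exact Or.inr rfl
          · exact Or.inl (inv_inv _)
      | inv a _ ha =>
        rcases ha with h | h
        · left
          conv_lhs => rw [← h]
          group
        · right
          have h2 : a * (g * y * g⁻¹)⁻¹ * a⁻¹ = g * y * g⁻¹ := by rw [← conj_inv, h, inv_inv]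
          conv_lhs => rw [← h2]
          group
    set A := Subgroup.normalClosure ({(y : G)} : Set G) with hAdef
    have hAL : A ≤ L := Subgroup.normalClosure_le_normal
      (Set.singleton_subset_iff.2 (hyL L Subgroup.normalClosure_normal Subgroup.subset_normalClosure))
    have hAs : Group.IsSolvable A := by
      refine isSolvable_of_commutator_central A fun a ha b hb c hc' => ?_
      induction hc' using Subgroup.closure_induction with
      | mem t ht =>
        obtain ⟨y', hy', htu⟩ := Group.mem_conjugatesOfSet_iff.1 ht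
        rw [Set.mem_singleton_iff] at hy'
        subst hy'
        obtain ⟨g, rfl⟩ := isConj_iff.1 htu
        set v := g * (y : G) * g⁻¹ with hv
        have hfix : ∀ {p : G}, (p * v * p⁻¹ = v ∨ p * v * p⁻¹ = v⁻¹) →
            p⁻¹ * v * p = p * v * p⁻¹ := by
          intro p hp
          rcases hp with h | h
          · rw [h]
            conv_lhs => rw [← h]
            group
          · rw [h]
            have h2 : p * v⁻¹ * p⁻¹ = v := by rw [← conj_inv, h, inv_inv]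
            conv_lhs => rw [← h2]
            group
        have hav := hLy g a (hAL ha)
        have hbv := hLy g b (hAL hb)
        rw [← hv] at hav hbv
        have key : ⁅a, b⁆ * v * ⁅a, b⁆⁻¹ = v := by
          rw [commutatorElement_def, show a * b * a⁻¹ * b⁻¹ * v * (a * b * a⁻¹ * b⁻¹)⁻¹ =
            a * (b * (a⁻¹ * (b⁻¹ * v * b) * a) * b⁻¹) * a⁻¹ by group, hfix hbv]
          have hai : a⁻¹ * v⁻¹ * a = (a⁻¹ * v * a)⁻¹ := by group
          rcases hbv with h | h <;> rw [h] <;> rcases hav with h' | h'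
          · rw [hfix (Or.inl h'), h', h, h']
          · rw [hfix (Or.inr h'), h', ← conj_inv, h, ← conj_inv, h', inv_inv]
          · rw [hai, hfix (Or.inl h'), h', ← conj_inv, h, inv_inv, h']
          · rw [hai, hfix (Or.inr h'), h', inv_inv, h, ← conj_inv, h', inv_inv]
        calc ⁅a, b⁆ * v = ⁅a, b⁆ * v * ⁅a, b⁆⁻¹ * ⁅a, b⁆ := by group
          _ = v * ⁅a, b⁆ := by rw [key]
      | one => rw [mul_one, one_mul]
      | mul p q _ _ hp hq => exact (Commute.mul_right hp hq).eq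
      | inv p _ hp => exact (Commute.inv_right hp).eq
    have hAbot := hrad A Subgroup.normalClosure_normal hAs
    have hyA : (y : G) ∈ A := Subgroup.subset_normalClosure rfl
    rw [hAbot, Subgroup.mem_bot] at hyA
    exact hyY.1.1 hyA
  refine core M' P' Q' ((S.2.comap_of_injective N.subtype N.subtype_injective).map f)
    ?_ ?_ (Subgroup.map_mono fun x hx => hUS hx) ?_ ?_ hcard ?_ hO' ?_
  · rintro _ ⟨m, hm, rfl⟩
    exact hcjmap m _ (hMS _ hm)
  · rintro _ ⟨m, hm, rfl⟩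
    exact hcjmap m _ (hMU _ hm)
  · rintro _ ⟨q, hq, rfl⟩ _ ⟨p, hp, rfl⟩
    rw [← map_mul, ← map_mul]
    exact congrArg f (Subtype.ext (hUc _ hq _ hp))
  · rintro _ ⟨q, hq, rfl⟩
    rw [← map_mul, show q * q = 1 from Subtype.ext (hU2 _ hq), map_one]
  · intro H hH
    set H' := (H.comap f).map N.subtype with hH'
    have hH'2 : IsPGroup 2 H' := by
      refine (hH.comap_of_ker_isPGroup f ?_).map _
      rw [hf, QuotientGroup.ker_mk']
      exact hD2.comap_of_injective N.subtype N.subtype_injective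
    obtain ⟨c, hcD, hle⟩ := hsyl H' hH'2 fun d hd => ⟨⟨d, Subgroup.le_normalizer hd⟩, by
      show f _ ∈ H
      rw [(hf1 _).2 hd]; exact one_mem _, rfl⟩
    refine ⟨f ⟨c, hNmem.2 hcD⟩, fun h hh => ?_⟩
    obtain ⟨z, rfl⟩ := QuotientGroup.mk'_surjective _ h
    rw [mem_cj, ← hf, ← map_inv, ← map_mul, ← map_mul]
    exact Subgroup.mem_map_of_mem f (Subgroup.mem_subgroupOf.2 (mem_cj.1 (hle ⟨z, hh, rfl⟩)))
  · rintro yb hyb _ ⟨⟨u, huN⟩, hu, rfl⟩ hu1 g hinv
    obtain ⟨g, rfl⟩ := QuotientGroup.mk'_surjective _ g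
    rw [← hf] at hinv
    have hu' : u ∈ U := hu
    obtain ⟨y, hyY, hyD, hfy, hyby, -, -⟩ := hlift u hu' g yb hyb
      (fun e => hu1 ((hf1 _).2 (show u ∈ D by rw [e]; exact one_mem _)))
      (by rwa [map_mul, map_mul, map_inv])
    have hyDc : cj (y : G) D = D := by
      ext d
      rw [mem_cj]
      have hyN := Subgroup.mem_normalizer_iff''.1 y.2 d
      exact hyN.symm
    refine ⟨fun H hH hHn => hlift2 y hyY H hH
      (cj_eq_of_mem_normalizer (Subgroup.zpowers_le.2 (mem_normalizer_of_cj_eq hHn) hfy)),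
      fun x => ?_⟩
    obtain ⟨x, rfl⟩ := QuotientGroup.mk'_surjective _ x
    obtain ⟨c, m, hc, hm, hx, hcD, hmD⟩ := hfacD _ hyY hyDc x (hNmem.1 x.2)
    refine ⟨f ⟨c, hNmem.2 hcD⟩, f ⟨m, hNmem.2 hmD⟩, ?_,
      Subgroup.mem_map_of_mem f (Subgroup.mem_subgroupOf.2 hm), ?_⟩
    · obtain ⟨i, rfl⟩ := Subgroup.mem_zpowers_iff.1 hyby
      have h1 : Commute (⟨c, hNmem.2 hcD⟩ : N) y := Subtype.ext hc
      exact ((h1.map f).zpow_right i).eq
    · rw [← map_mul]
      exact congrArg f (Subtype.ext hx)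

end Cfsg.Agent.RealClassDisc
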