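import Cfsg.Agent.Lib.RealClassDisc.Local
import Cfsg.Agent.ASolv.MaxTwoPart
import Cfsg.Agent.Lib.Coprime.Action
import Cfsg.Agent.Lib.CIT.ConsEPPOMain
import Cfsg.Agent.S3861
import Cfsg.Agent.S0205

/-!
Real class sizes with disconnected prime graph (S4187): the global reduction.
-/

set_option autoImplicit false

namespace Cfsg.Agent.RealClassDisc

universe u v

variable {G : Type u} [Group G]

/-- A real lift of a real element of odd prime power order. -/
theorem exists_lift [Finite G] {H : Type v} [Group H] [Finite H] (f : G →* H)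
    (hf : Function.Surjective f) {yb s : H} (hy : PP yb) (hs : s * yb * s⁻¹ = yb⁻¹) :
    ∃ y : G, PP y ∧ IsConj y y⁻¹ ∧ f y = yb := by
  obtain ⟨hy1, r, K, hr, hr2, hyr⟩ := hy
  haveI : Fact r.Prime := ⟨hr⟩
  set Z := Subgroup.zpowers yb with hZ
  set D := Z.comap f with hD
  set E := (Subgroup.normalizer (Z : Set H)).comap f with hE
  have hDE : D ≤ E := Subgroup.comap_mono Subgroup.le_normalizer
  haveI : (D.subgroupOf E).Normal := by
    rw [Subgroup.normal_subgroupOf_iff_le_normalizer hDE]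
    exact Subgroup.le_normalizer_comap f
  obtain ⟨P₀⟩ := (inferInstance : Nonempty (Sylow r ↥(D.subgroupOf E)))
  set P : Subgroup E := (P₀ : Subgroup ↥(D.subgroupOf E)).map (D.subgroupOf E).subtype with hP
  set PG : Subgroup G := P.map E.subtype with hPG
  have hPr : IsPGroup r PG := (P₀.2.map _).map _
  -- `P` maps onto `Z`
  have hZr : IsPGroup r Z := fun ⟨a, ha⟩ => ⟨K, Subtype.ext (by
    obtain ⟨i, rfl⟩ := Subgroup.mem_zpowers_iff.1 ha
    show (yb ^ i) ^ r ^ K = 1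
    rw [← zpow_natCast (yb ^ i), ← zpow_mul, mul_comm, zpow_mul, zpow_natCast, hyr, one_zpow])⟩
  let g : ↥(D.subgroupOf E) →* Z :=
    ((f.comp E.subtype).comp (D.subgroupOf E).subtype).codRestrict Z fun x => x.2
  have hg : Function.Surjective g := by
    rintro ⟨a, ha⟩
    obtain ⟨b, rfl⟩ := hf a
    exact ⟨⟨⟨b, hDE ha⟩, ha⟩, rfl⟩
  have htop : ((P₀.mapSurjective hg : Sylow r Z) : Subgroup Z) = ⊤ :=
    ((P₀.mapSurjective hg).3 (hZr.of_equiv Subgroup.topEquiv.symm) le_top).symm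
  obtain ⟨x₀, hx₀, hgx⟩ : (⟨yb, Subgroup.mem_zpowers yb⟩ : Z) ∈
      (P₀ : Subgroup ↥(D.subgroupOf E)).map g := by
    rw [← Sylow.coe_mapSurjective hg, htop]; exact Subgroup.mem_top _
  set x : G := ((x₀ : E) : G) with hx
  have hxP : x ∈ PG := ⟨_, ⟨x₀, hx₀, rfl⟩, rfl⟩
  have hfx : f x = yb := congrArg Subtype.val hgx
  -- an inverter normalising `P`
  have hsE : s ∈ Subgroup.normalizer (Z : Set H) := by
    refine mem_normalizer_of_cj_eq ?_
    rw [hZ, cj_zpowers, hs, Subgroup.zpowers_inv]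
  obtain ⟨s₀, rfl⟩ := hf s
  obtain ⟨a, ha, d, hd, had⟩ := Subgroup.mem_sup_of_normal_right.1
    ((Sylow.normalizer_sup_eq_top P₀) ▸ Subgroup.mem_top (⟨s₀, hsE⟩ : E) :
      (⟨s₀, hsE⟩ : E) ∈ Subgroup.normalizer (P : Set E) ⊔ D.subgroupOf E)
  have hga : f (a : G) * yb * (f (a : G))⁻¹ = yb⁻¹ := by
    obtain ⟨i, hi⟩ := Subgroup.mem_zpowers_iff.1
      (show f ((d : E) : G) ∈ Subgroup.zpowers yb from hd)
    have h1 : f s₀ = f (a : G) * yb ^ i := by
      rw [hi, ← map_mul]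
      exact congrArg (fun w : E => f (w : G)) had.symm
    rw [h1] at hs
    calc f (a : G) * yb * (f (a : G))⁻¹ = f (a : G) * yb ^ i * yb * (f (a : G) * yb ^ i)⁻¹ := by
          group
      _ = yb⁻¹ := hs
  have haP : (a : G) ∈ Subgroup.normalizer (PG : Set G) :=
    Subgroup.le_normalizer_map E.subtype ⟨a, ha, rfl⟩
  obtain ⟨n, m, hm, hnm⟩ := Nat.exists_eq_two_pow_mul_odd (orderOf_pos (a : G)).ne'
  set t : G := (a : G) ^ m with ht
  have ht2 : t ^ 2 ^ n = 1 := by rw [ht, ← pow_mul, mul_comm, ← hnm, pow_orderOf_eq_one]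
  have htP : t ∈ Subgroup.normalizer (PG : Set G) := pow_mem haP m
  have h1 : f (a : G) * yb⁻¹ * (f (a : G))⁻¹ = yb := by rw [← conj_inv, hga, inv_inv]
  have hga2 : Commute ((f (a : G)) ^ 2) yb := by
    show f (a : G) ^ 2 * yb = yb * f (a : G) ^ 2
    calc f (a : G) ^ 2 * yb
        = f (a : G) * (f (a : G) * yb * (f (a : G))⁻¹) * f (a : G) := by rw [pow_two]; group
      _ = (f (a : G) * yb⁻¹ * (f (a : G))⁻¹) * f (a : G) ^ 2 := by rw [hga, pow_two]; group
      _ = yb * f (a : G) ^ 2 := by rw [h1]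
  have hgt : f t * yb * (f t)⁻¹ = yb⁻¹ := by
    obtain ⟨i, hi⟩ := hm
    rw [ht, map_pow, hi, pow_succ', pow_mul]
    calc f (a : G) * (f (a : G) ^ 2) ^ i * yb * (f (a : G) * (f (a : G) ^ 2) ^ i)⁻¹
        = f (a : G) * ((f (a : G) ^ 2) ^ i * yb) * ((f (a : G) ^ 2) ^ i)⁻¹ * (f (a : G))⁻¹ := by
          group
      _ = f (a : G) * yb * (f (a : G))⁻¹ := by rw [(hga2.pow_left i).eq]; group
      _ = yb⁻¹ := hga
  -- fixed points of `t²`
  set A := Subgroup.zpowers (t ^ 2) with hA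
  have hgt2 : Commute (f (t ^ 2)) yb := by
    rw [ht, ← pow_mul, mul_comm, pow_mul, map_pow, map_pow]
    exact hga2.pow_left m
  have hAP : ∀ c ∈ A, c ∈ Subgroup.normalizer (PG : Set G) := fun c hc => by
    obtain ⟨i, rfl⟩ := Subgroup.mem_zpowers_iff.1 hc
    exact zpow_mem (pow_mem htP 2) i
  obtain ⟨e, he⟩ := IsPGroup.iff_card.1 (hPr.to_le (inf_le_left : PG ⊓ f.ker ≤ PG))
  obtain ⟨l, -, hl⟩ := (Nat.dvd_prime_pow Nat.prime_two).1
    (orderOf_dvd_of_pow_eq_one (show (t ^ 2) ^ 2 ^ n = 1 by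
      rw [← pow_mul, mul_comm, pow_mul, ht2, one_pow]))
  obtain ⟨n₀, hn₀, hfix⟩ := Coprime.exists_fixed_in_coset (A := A) (N := PG ⊓ f.ker)
    (fun c hc => by
      refine Subgroup.mem_normalizer_iff.2 fun h => ?_
      have h1 := Subgroup.mem_normalizer_iff.1 (hAP c hc) h
      refine ⟨fun hh => ⟨h1.1 hh.1, f.normal_ker.conj_mem h hh.2 c⟩, fun hh => ⟨h1.2 hh.1, ?_⟩⟩
      have h2 := f.normal_ker.conj_mem _ hh.2 c⁻¹
      simpa [mul_assoc] using h2)
    (by
      rw [hA, Nat.card_zpowers, hl, he]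
      exact Nat.Coprime.pow _ _ ((Nat.coprime_primes Nat.prime_two hr).2 (Ne.symm hr2)))
    (Or.inl inferInstance) (k := x) (fun c hc => by
      refine Subgroup.mem_inf.2
        ⟨mul_mem (inv_mem hxP) ((Subgroup.mem_normalizer_iff.1 (hAP c hc) x).1 hxP), ?_⟩
      obtain ⟨i, rfl⟩ := Subgroup.mem_zpowers_iff.1 hc
      rw [MonoidHom.mem_ker]
      simp only [map_mul, map_inv, map_zpow, hfx]
      rw [((hgt2.zpow_left i).eq)]
      group)
  set x' := x * n₀ with hx'
  have hx'P : x' ∈ PG := mul_mem hxP hn₀.1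
  have hfx' : f x' = yb := by rw [hx', map_mul, hfx, (MonoidHom.mem_ker.1 hn₀.2), mul_one]
  have hc2 : t ^ 2 * x' = x' * t ^ 2 :=
    Subgroup.mem_centralizer_iff.1 hfix _ (Subgroup.mem_zpowers _)
  set y₀ := x'⁻¹ * (t * x' * t⁻¹) with hy₀
  have hy₀P : y₀ ∈ PG := mul_mem (inv_mem hx'P) ((Subgroup.mem_normalizer_iff.1 htP x').1 hx'P)
  have hy₀i : t * y₀ * t⁻¹ = y₀⁻¹ := by
    calc t * y₀ * t⁻¹ = (t * x' * t⁻¹)⁻¹ * (t ^ 2 * x' * (t ^ 2)⁻¹) := by rw [hy₀]; group
      _ = (t * x' * t⁻¹)⁻¹ * x' := by rw [hc2, mul_inv_cancel_right]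
      _ = y₀⁻¹ := by rw [hy₀]; group
  have hfy₀ : f y₀ = (yb ^ 2)⁻¹ := by
    rw [hy₀, map_mul f x'⁻¹ (t * x' * t⁻¹), map_inv f x', map_mul f (t * x') t⁻¹, map_mul f t x',
      map_inv f t, hfx', hgt]
    group
  obtain ⟨j, hj⟩ := exists_pow_eq_self_of_coprime (x := yb) (n := 2)
    (Nat.Coprime.coprime_dvd_right (orderOf_dvd_of_pow_eq_one hyr)
      (((Nat.coprime_primes Nat.prime_two hr).2 (Ne.symm hr2)).pow_right K))
  have hy : f (y₀⁻¹ ^ j) = yb := by rw [map_pow, map_inv, hfy₀, inv_inv, hj]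
  refine ⟨y₀⁻¹ ^ j, ⟨fun e => hy1 (by rw [← hy, e, map_one]), ?_⟩,
    isConj_iff.2 ⟨t, inv_pow_of_inv ?_ j⟩, hy⟩
  · obtain ⟨k, hk⟩ := hPr ⟨y₀⁻¹ ^ j, pow_mem (inv_mem hy₀P) j⟩
    exact ⟨r, k, hr, hr2, congrArg Subtype.val hk⟩
  · rw [← conj_inv, hy₀i]

/-- The class of a real element different from its inverse has even size. -/
theorem two_dvd_index [Finite G] {y : G} (hy : IsConj y y⁻¹) (hne : y⁻¹ ≠ y) :
    2 ∣ (Subgroup.centralizer ({y} : Set G)).index := by
  obtain ⟨c, hc⟩ := isConj_iff.1 hy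
  have h1 := ASolv.MaxTwoPart.v2_inter_lt (x := (1 : G)) (t := c) (by group) hc hne
  have htop : Subgroup.centralizer ({1} : Set G) = ⊤ :=
    eq_top_iff.2 fun g _ => Subgroup.mem_centralizer_singleton_iff.2 (by group)
  rw [htop, top_inf_eq] at h1
  simp only [ASolv.MaxTwoPart.v2, Subgroup.card_top] at h1
  rw [← Subgroup.card_mul_index (Subgroup.centralizer ({y} : Set G)),
    Nat.factorization_mul Nat.card_pos.ne' Subgroup.index_ne_zero_of_finite, Finsupp.add_apply] at h1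
  exact Nat.dvd_of_factorization_pos (by omega)

/-- Subgroups of coprime index factorise the group. -/
theorem exists_mul_of_coprime_index [Finite G] (A B : Subgroup G) (h : A.index.Coprime B.index)
    (x : G) : ∃ a ∈ A, ∃ b ∈ B, x = a * b := by
  have h1 : A.index * B.index ∣ (A ⊓ B).index :=
    h.mul_dvd_of_dvd_of_dvd (Subgroup.index_dvd_of_le inf_le_left)
      (Subgroup.index_dvd_of_le inf_le_right)
  have h2 : (A ⊓ B).index = B.relIndex A * A.index := by
    rw [← Subgroup.relIndex_mul_index (inf_le_left : A ⊓ B ≤ A), inf_comm,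
      Subgroup.inf_relIndex_right]
  rw [h2, mul_comm] at h1
  have h3 : B.index ∣ B.relIndex A :=
    Nat.dvd_of_mul_dvd_mul_right (Nat.pos_of_ne_zero Subgroup.index_ne_zero_of_finite) h1
  let F : A ⧸ B.subgroupOf A → G ⧸ B :=
    Quotient.lift (fun a : A => ((a : G) : G ⧸ B)) fun a b hab => by
      refine QuotientGroup.eq.2 ?_
      exact Subgroup.mem_subgroupOf.1 (QuotientGroup.leftRel_apply.1 hab)
  have hF : Function.Injective F := by
    intro a b
    refine Quotient.inductionOn₂ a b fun a b hab => ?_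
    refine Quotient.sound (QuotientGroup.leftRel_apply.2 (Subgroup.mem_subgroupOf.2 ?_))
    exact QuotientGroup.eq.1 hab
  have hsurj : Function.Surjective F :=
    (hF.bijective_of_nat_card_le (Nat.le_of_dvd Nat.card_pos h3)).2
  obtain ⟨q, hq⟩ := hsurj (x : G ⧸ B)
  obtain ⟨a, rfl⟩ := Quotient.exists_rep q
  exact ⟨a, a.2, (a : G)⁻¹ * x, QuotientGroup.eq.1 hq, by group⟩

/-- The setting: `2 ∈ π₁`, `z` real with class size a multiple of `q ∈ π₂`. -/
theorem setting [Finite G] (π₁ π₂ : Set ℕ)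
    (hcov : ∀ p : ℕ, p.Prime → ∀ x : G, IsConj x x⁻¹ →
      p ∣ (Subgroup.centralizer ({x} : Set G)).index → p ∈ π₁ ∨ p ∈ π₂)
    (hno : ∀ a ∈ π₁, ∀ b ∈ π₂, ∀ x : G, IsConj x x⁻¹ →
      a ∣ (Subgroup.centralizer ({x} : Set G)).index →
        ¬ b ∣ (Subgroup.centralizer ({x} : Set G)).index)
    (h2 : 2 ∈ π₁) {q : ℕ} (hq : q ∈ π₂) {z : G} (hz : IsConj z z⁻¹)
    (hqz : q ∣ (Subgroup.centralizer ({z} : Set G)).index) :
    (z⁻¹ = z ∧ ¬ 2 ∣ (Subgroup.centralizer ({z} : Set G)).index) ∧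
      (∀ y : G, IsConj y y⁻¹ → Odd (orderOf y) → y ≠ 1 → y ∉ Subgroup.centralizer ({z} : Set G)) ∧
      ∀ y : G, IsConj y y⁻¹ → Odd (orderOf y) → y ≠ 1 → ∀ x : G,
        ∃ c m : G, c * y = y * c ∧ m ∈ Subgroup.centralizer ({z} : Set G) ∧ x = c * m := by
  haveI : Fact (Nat.Prime 2) := ⟨Nat.prime_two⟩
  set C := Subgroup.centralizer ({z} : Set G) with hC
  have hodd : ¬ 2 ∣ C.index := fun h => hno 2 h2 q hq z hz h hqz
  have hzi : z⁻¹ = z := by_contra fun h => hodd (two_dvd_index hz h)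
  have hz2 : z * z = 1 := by nth_rw 1 [← hzi]; exact inv_mul_cancel z
  have heven : ∀ y : G, IsConj y y⁻¹ → Odd (orderOf y) → y ≠ 1 →
      2 ∣ (Subgroup.centralizer ({y} : Set G)).index := by
    intro y hy ho hy1
    refine two_dvd_index hy fun e => hy1 (eq_one_of_odd ho (n := 1) ?_)
    rw [pow_one, pow_two]
    nth_rw 1 [← e]
    exact inv_mul_cancel y
  have hcop : ∀ y : G, IsConj y y⁻¹ → Odd (orderOf y) → y ≠ 1 →
      (Subgroup.centralizer ({y} : Set G)).index.Coprime C.index := by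
    intro y hy ho hy1
    refine Nat.coprime_of_dvd fun p hp hpy hpz => ?_
    rcases hcov p hp y hy hpy with h | h
    · exact hno p h q hq z hz hpz hqz
    · exact hno 2 h2 p h y hy (heven y hy ho hy1) hpy
  have hprod : ∀ y : G, IsConj y y⁻¹ → Odd (orderOf y) → y ≠ 1 → ∀ x : G,
      ∃ c m : G, c * y = y * c ∧ m ∈ C ∧ x = c * m := by
    intro y hy ho hy1 x
    obtain ⟨c, hc, m, hm, rfl⟩ := exists_mul_of_coprime_index _ _ (hcop y hy ho hy1) x
    exact ⟨c, m, Subgroup.mem_centralizer_singleton_iff.1 hc, hm, rfl⟩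
  -- `C(z)` contains no real element of odd order
  have hnoreal : ∀ y : G, IsConj y y⁻¹ → Odd (orderOf y) → y ≠ 1 → y ∉ C := by
    intro y hy ho hy1 hyC
    obtain ⟨g, hg⟩ := isConj_iff.1 hy
    obtain ⟨c, m, hc, hm, rfl⟩ := hprod y hy ho hy1 g
    have hcy : c⁻¹ * y⁻¹ * c = y⁻¹ := by
      rw [show c⁻¹ * y⁻¹ * c = (c⁻¹ * (y * c))⁻¹ by group, ← hc, inv_mul_cancel_left]
    have hm' : m * y * m⁻¹ = y⁻¹ := by
      calc m * y * m⁻¹ = c⁻¹ * (c * m * y * (c * m)⁻¹) * c := by group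
        _ = y⁻¹ := by rw [hg, hcy]
    have hyz : y * z = z * y := Subgroup.mem_centralizer_singleton_iff.1 hyC
    have hmz : m * z = z * m := Subgroup.mem_centralizer_singleton_iff.1 hm
    have hreal : IsConj (y * z) (y * z)⁻¹ := isConj_iff.2 ⟨m, by
      calc m * (y * z) * m⁻¹ = (m * y * m⁻¹) * (m * z * m⁻¹) := by group
        _ = y⁻¹ * z := by rw [hm', hmz, mul_inv_cancel_right]
        _ = (z * y)⁻¹ := by rw [mul_inv_rev, hzi]
        _ = (y * z)⁻¹ := by rw [hyz]⟩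
    have hle : Subgroup.centralizer ({y * z} : Set G) ≤ Subgroup.centralizer ({y} : Set G) ⊓ C := by
      intro w hw
      have hw' : Commute w (y * z) := Subgroup.mem_centralizer_singleton_iff.1 hw
      obtain ⟨i, hi⟩ := ho
      have hpy : (y * z) ^ (2 * (i + 1)) = y := by
        rw [(show Commute y z from hyz).mul_pow, pow_mul z, pow_two z, hz2, one_pow, mul_one,
          show 2 * (i + 1) = orderOf y + 1 by omega, pow_succ, pow_orderOf_eq_one, one_mul]
      have h1 : Commute w y := by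
        have := hw'.pow_right (2 * (i + 1))
        rwa [hpy] at this
      refine ⟨Subgroup.mem_centralizer_singleton_iff.2 h1, Subgroup.mem_centralizer_singleton_iff.2 ?_⟩
      have := h1.inv_right.mul_right hw'
      rwa [inv_mul_cancel_left] at this
    exact hno 2 h2 q hq _ hreal
      ((heven y hy ho hy1).trans (Subgroup.index_dvd_of_le (hle.trans inf_le_left)))
      (hqz.trans (Subgroup.index_dvd_of_le (hle.trans inf_le_right)))
  exact ⟨⟨hzi, hodd⟩, hnoreal, hprod⟩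

/-- S4187 with `2 ∈ π₁`. -/
theorem main [Finite G] (π₁ π₂ : Set ℕ)
    (hcov : ∀ p : ℕ, p.Prime → ∀ x : G, IsConj x x⁻¹ →
      p ∣ (Subgroup.centralizer ({x} : Set G)).index → p ∈ π₁ ∨ p ∈ π₂)
    (hno : ∀ a ∈ π₁, ∀ b ∈ π₂, ∀ x : G, IsConj x x⁻¹ →
      a ∣ (Subgroup.centralizer ({x} : Set G)).index →
        ¬ b ∣ (Subgroup.centralizer ({x} : Set G)).index)
    (h2 : 2 ∈ π₁) {q : ℕ} (hq : q ∈ π₂) {z : G} (hz : IsConj z z⁻¹)
    (hqz : q ∣ (Subgroup.centralizer ({z} : Set G)).index) : Group.IsSolvable G := by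
  haveI : Fact (Nat.Prime 2) := ⟨Nat.prime_two⟩
  obtain ⟨⟨-, hodd⟩, hnoreal, hprod⟩ := setting π₁ π₂ hcov hno h2 hq hz hqz
  set C := Subgroup.centralizer ({z} : Set G) with hC
  obtain ⟨P⟩ := (inferInstance : Nonempty (Sylow 2 C))
  have hPn : (P : Subgroup C).Normal := (S3861.result P).1 fun x hx1 ho hr =>
    hnoreal (x : G) (by simpa using C.subtype.map_isConj hr) (by rwa [Subgroup.orderOf_coe])
      (fun e => hx1 (Subtype.ext e)) x.2
  let S : Sylow 2 G := Sylow.ofCard ((P : Subgroup C).map C.subtype) (by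
    rw [Subgroup.card_map_of_injective C.subtype_injective, P.card_eq_multiplicity]
    congr 1
    rw [← C.card_mul_index, Nat.factorization_mul Nat.card_pos.ne' Subgroup.index_ne_zero_of_finite,
      Finsupp.add_apply, Nat.factorization_eq_zero_of_not_dvd hodd, add_zero])
  -- the quotient by the soluble radical
  obtain ⟨R, hRn, hRs, hRmax⟩ := CIT.exists_solvable_radical G
  haveI := hRn
  haveI := hRs
  set f := QuotientGroup.mk' R with hf
  have hext : Group.IsSolvable (G ⧸ R) → Group.IsSolvable G := fun h => by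
    haveI := h
    exact Group.isSolvable_of_ker_le_range R.subtype f
      (by rw [hf, QuotientGroup.ker_mk', Subgroup.range_subtype])
  by_cases h2Q : 2 ∣ Nat.card (G ⧸ R)
  swap
  · exact hext (S0205.result (Nat.odd_iff.2 (Nat.two_dvd_ne_zero.1 h2Q)))
  exfalso
  refine false_of_factor (C.map f) (S.mapSurjective (QuotientGroup.mk'_surjective R)) ?_ ?_ h2Q ?_
  · rintro _ ⟨m, hm, rfl⟩
    have hSn : cj m (S : Subgroup G) = S := by
      refine Subgroup.eq_of_le_of_card_ge ?_ (card_cj _ _).ge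
      rintro w hw
      obtain ⟨p, hp, hpw⟩ := mem_cj.1 hw
      refine ⟨⟨m, hm⟩ * p * ⟨m, hm⟩⁻¹, hPn.conj_mem p hp _, ?_⟩
      have hpw' : (p : G) = m⁻¹ * w * m := hpw
      show m * (p : G) * m⁻¹ = w
      rw [hpw']; group
    rw [Sylow.coe_mapSurjective]
    conv_rhs => rw [← hSn]
    rw [cj, cj, Subgroup.map_map, Subgroup.map_map]
    congr 1
  · intro N hN hNs
    haveI := hN
    haveI := hNs
    haveI : (N.comap f).Normal := hN.comap f
    have hs : Group.IsSolvable (N.comap f) := by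
      have hle : R ≤ N.comap f := fun x hx => by
        show f x ∈ N
        rw [show f x = 1 from (QuotientGroup.eq_one_iff x).2 hx]
        exact one_mem _
      exact Group.isSolvable_of_ker_le_range (Subgroup.inclusion hle) (f.subgroupComap N)
        fun v hv => ⟨⟨v, (QuotientGroup.eq_one_iff _).1 (congrArg Subtype.val hv)⟩, rfl⟩
    have h1 := hRmax (N.comap f) inferInstance hs
    rw [eq_bot_iff]
    intro w hw
    obtain ⟨x, rfl⟩ := QuotientGroup.mk'_surjective R w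
    exact Subgroup.mem_bot.2 ((QuotientGroup.eq_one_iff x).2 (h1 hw))
  · intro yb hy t _ hty xb
    obtain ⟨y, hyP, hyr, rfl⟩ := exists_lift f (QuotientGroup.mk'_surjective R) hy hty
    obtain ⟨x, rfl⟩ := QuotientGroup.mk'_surjective R xb
    obtain ⟨c, m, hc, hm, rfl⟩ := hprod y hyr hyP.odd hyP.1 x
    exact ⟨f c, f m, by rw [← map_mul, hc, map_mul], Subgroup.mem_map_of_mem f hm, map_mul f c m⟩

/-- Some real class has even size unless the group is soluble. -/
theorem exists_even [Finite G] (hns : ¬ Group.IsSolvable G) :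
    ∃ x : G, IsConj x x⁻¹ ∧ 2 ∣ (Subgroup.centralizer ({x} : Set G)).index := by
  haveI : Fact (Nat.Prime 2) := ⟨Nat.prime_two⟩
  by_contra hc
  push Not at hc
  obtain ⟨P⟩ := (inferInstance : Nonempty (Sylow 2 G))
  have hPn : (P : Subgroup G).Normal := (S3861.result P).1 fun x hx1 ho hr =>
    hc x hr (two_dvd_index hr fun e => hx1 (eq_one_of_odd ho (n := 1) (by
      rw [pow_one, pow_two]
      nth_rw 1 [← e]
      exact inv_mul_cancel x)))
  haveI := hPn
  haveI := P.2.isNilpotent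
  haveI : Group.IsSolvable (G ⧸ (P : Subgroup G)) := S0205.result (Nat.odd_iff.2
    (Nat.two_dvd_ne_zero.1 (by rw [← Subgroup.index_eq_card]; exact P.not_dvd_index)))
  exact hns (Group.isSolvable_of_ker_le_range (P : Subgroup G).subtype
    (QuotientGroup.mk' (P : Subgroup G))
    (by rw [QuotientGroup.ker_mk', Subgroup.range_subtype]))

end Cfsg.Agent.RealClassDisc
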