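import Cfsg.Agent.Lib.RealClassDisc.Main
import Cfsg.Agent.Lib.Cores.Basic
import Cfsg.Agent.Lib.Cores.Fitting
import Cfsg.Agent.Lib.SmallSimple.Basic

/-!
Real class sizes with disconnected prime graph (S4192): the structure.

The primes of the orders of real elements of odd order lie in `π₂`; as `G` is soluble, the 2-elements
generate a subgroup all of whose prime divisors lie in `π₂ ∪ {2}`, so that its real classes of even
size have 2-power size.
-/

set_option autoImplicit false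

namespace Cfsg.Agent.RealClassDisc

universe u

variable {G : Type u} [Group G] [Finite G]

/-- The 2-elements. -/
def twoGen (G : Type u) [Group G] : Subgroup G :=
  Subgroup.closure {g : G | ∃ k : ℕ, orderOf g = 2 ^ k}

instance twoGen_normal : (twoGen G).Normal := by
  refine ⟨fun n hn g => ?_⟩
  unfold twoGen at hn ⊢
  induction hn using Subgroup.closure_induction with
  | mem t ht =>
    obtain ⟨k, hk⟩ := ht
    exact Subgroup.subset_closure ⟨k, by
      rw [show g * t * g⁻¹ = MulAut.conj g t from rfl, MulEquiv.orderOf_eq, hk]⟩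
  | one => simp
  | mul a b _ _ ha hb => rw [← conj_mul]; exact mul_mem ha hb
  | inv a _ ha => rw [← conj_inv]; exact inv_mem ha

theorem mem_twoGen_of_pow {g : G} {k : ℕ} (h : g ^ 2 ^ k = 1) : g ∈ twoGen G := by
  obtain ⟨i, -, hi⟩ := (Nat.dvd_prime_pow Nat.prime_two).1 (orderOf_dvd_of_pow_eq_one h)
  exact Subgroup.subset_closure ⟨i, hi⟩

omit [Finite G] in
theorem pow_inverter {y c : G} (hc : c * y * c⁻¹ = y⁻¹) (i : ℕ) :
    c ^ (2 * i + 1) * y * (c ^ (2 * i + 1))⁻¹ = y⁻¹ := by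
  have hcy : c * y⁻¹ * c⁻¹ = y := by rw [← conj_inv, hc, inv_inv]
  induction i with
  | zero => simpa using hc
  | succ i ih =>
    calc c ^ (2 * (i + 1) + 1) * y * (c ^ (2 * (i + 1) + 1))⁻¹
        = c * (c * (c ^ (2 * i + 1) * y * (c ^ (2 * i + 1))⁻¹) * c⁻¹) * c⁻¹ := by
          rw [show 2 * (i + 1) + 1 = (2 * i + 1) + 1 + 1 by omega, pow_succ', pow_succ']; group
      _ = y⁻¹ := by rw [ih, hcy, hc]

/-- A real element has a 2-element inverting it. -/
theorem exists_two_inverter {y : G} (hy : IsConj y y⁻¹) :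
    ∃ t : G, t ∈ twoGen G ∧ t * y * t⁻¹ = y⁻¹ := by
  obtain ⟨c, hc⟩ := isConj_iff.1 hy
  obtain ⟨k, m, ⟨i, hi⟩, hkm⟩ := Nat.exists_eq_two_pow_mul_odd (orderOf_pos c).ne'
  refine ⟨c ^ m, mem_twoGen_of_pow (k := k) ?_, hi ▸ pow_inverter hc i⟩
  rw [← pow_mul, mul_comm, ← hkm, pow_orderOf_eq_one]

/-- A real element of odd order is a product of 2-elements. -/
theorem mem_twoGen_of_real {y : G} (hy : IsConj y y⁻¹) (ho : Odd (orderOf y)) : y ∈ twoGen G := by
  obtain ⟨t, ht, hty⟩ := exists_two_inverter hy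
  have h1 : (t * y * t⁻¹) * (t * y⁻¹ * t⁻¹) = 1 := by group
  have h2 : t * (y * t⁻¹ * y⁻¹) ∈ twoGen G :=
    mul_mem ht (Subgroup.Normal.conj_mem inferInstance _ (inv_mem ht) y)
  rw [show t * (y * t⁻¹ * y⁻¹) = (t * y * t⁻¹) * y⁻¹ by group, hty, ← mul_inv_rev] at h2
  obtain ⟨j, hj⟩ := exists_pow_eq_self_of_coprime (x := y) (n := 2) (Nat.coprime_two_left.2 ho)
  rw [← hj, pow_two]
  exact pow_mem (by simpa using inv_mem h2) j

/-- The primes of a real element of odd order divide the class size of `z`, hence lie in `π₂`. -/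
theorem prime_mem (π₁ π₂ : Set ℕ)
    (hcov : ∀ p : ℕ, p.Prime → ∀ x : G, IsConj x x⁻¹ →
      p ∣ (Subgroup.centralizer ({x} : Set G)).index → p ∈ π₁ ∨ p ∈ π₂)
    (hno : ∀ a ∈ π₁, ∀ b ∈ π₂, ∀ x : G, IsConj x x⁻¹ →
      a ∣ (Subgroup.centralizer ({x} : Set G)).index →
        ¬ b ∣ (Subgroup.centralizer ({x} : Set G)).index)
    (h2 : 2 ∈ π₁) {q : ℕ} (hq : q ∈ π₂) {z : G} (hz : IsConj z z⁻¹)
    (hqz : q ∣ (Subgroup.centralizer ({z} : Set G)).index)
    {y : G} (hy : IsConj y y⁻¹) (ho : Odd (orderOf y)) {r : ℕ} (hr : r.Prime) (hry : r ∣ orderOf y) :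
    r ∈ π₂ := by
  obtain ⟨-, hnoreal, -⟩ := setting π₁ π₂ hcov hno h2 hq hz hqz
  haveI : Fact r.Prime := ⟨hr⟩
  set C := Subgroup.centralizer ({z} : Set G) with hC
  set w := y ^ (orderOf y / r) with hw
  have how : orderOf w = r := orderOf_pow_orderOf_div (orderOf_pos y).ne' hry
  obtain ⟨t, -, ht⟩ := exists_two_inverter hy
  have hwr : IsConj w w⁻¹ := isConj_iff.2 ⟨t, inv_pow_of_inv ht _⟩
  have hwo : Odd (orderOf w) := how ▸ Odd.of_dvd_nat ho hry
  have hw1 : w ≠ 1 := fun e => hr.one_lt.ne (by rw [← how, e, orderOf_one])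
  have hfix : (MulAction.fixedPoints (Subgroup.zpowers w) (G ⧸ C)) = ∅ := by
    ext a
    simp only [Set.mem_empty_iff_false, iff_false]
    intro ha
    obtain ⟨g, rfl⟩ := QuotientGroup.mk_surjective a
    have h1 : ((w * g : G) : G ⧸ C) = (g : G ⧸ C) := ha ⟨w, Subgroup.mem_zpowers w⟩
    have h2 := QuotientGroup.eq.1 h1.symm
    refine hnoreal (g⁻¹ * w * g) (isConj_iff.2 ⟨g⁻¹ * t * g, ?_⟩) ?_ (fun e => hw1 ?_)
      (by rwa [mul_assoc])
    · calc g⁻¹ * t * g * (g⁻¹ * w * g) * (g⁻¹ * t * g)⁻¹ = g⁻¹ * (t * w * t⁻¹) * g := by group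
        _ = (g⁻¹ * w * g)⁻¹ := by rw [hw, inv_pow_of_inv ht]; group
    · have h3 : orderOf (g⁻¹ * w * g) = orderOf w := by
        simpa using orderOf_injective (MulAut.conj g⁻¹).toMonoidHom (MulAut.conj g⁻¹).injective w
      rwa [h3]
    · calc w = g * (g⁻¹ * w * g) * g⁻¹ := by group
        _ = 1 := by rw [e]; group
  have hp : IsPGroup r (Subgroup.zpowers w) := IsPGroup.of_card (n := 1) (by
    rw [Nat.card_zpowers, how, pow_one])
  have hmod := hp.card_modEq_card_fixedPoints (G ⧸ C)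
  rw [hfix] at hmod
  have hdvd : r ∣ C.index := by
    rw [Subgroup.index_eq_card]
    exact Nat.modEq_zero_iff_dvd.1 (by simpa using hmod)
  rcases hcov r hr z hz hdvd with h | h
  · exact absurd hqz (hno r h q hq z hz hdvd)
  · exact h

/-- The prime divisors of the subgroup generated by the 2-elements. -/
theorem twoGen_primes [Group.IsSolvable G] (P : ℕ → Prop) (hP2 : P 2)
    (hP : ∀ y : G, IsConj y y⁻¹ → Odd (orderOf y) → ∀ r : ℕ, r.Prime → r ∣ orderOf y → P r)
    {p : ℕ} (hp : p.Prime) (hd : p ∣ Nat.card (twoGen G)) : P p := by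
  haveI : Fact (Nat.Prime 2) := ⟨Nat.prime_two⟩
  let ok : Subgroup G → Prop := fun N => ∀ r : ℕ, r.Prime → r ∣ Nat.card N → P r
  obtain ⟨N, ⟨hNn, hNok⟩, hmax⟩ := Set.Finite.exists_maximalFor (fun K : Subgroup G => Nat.card K)
    {K : Subgroup G | K.Normal ∧ ok K} (Set.toFinite _)
    ⟨⊥, inferInstance, fun r hr h => by
      rw [Subgroup.card_bot, Nat.dvd_one] at h
      exact absurd h hr.ne_one⟩
  haveI := hNn
  set f := QuotientGroup.mk' N with hf
  have hbot : ∀ B : Subgroup (G ⧸ N), B.Normal → (∀ r : ℕ, r.Prime → r ∣ Nat.card B → P r) →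
      B = ⊥ := by
    intro B hB hBok
    haveI := hB
    have hle : N ≤ B.comap f := fun x hx => by
      show f x ∈ B
      rw [show f x = 1 from (QuotientGroup.eq_one_iff x).2 hx]
      exact one_mem _
    have hc := Cores.card_comap_mk' N B
    have h1 : Nat.card (B.comap f) ≤ Nat.card N := by
      refine hmax ⟨hB.comap f, fun r hr h => ?_⟩ (Nat.le_of_dvd Nat.card_pos (Subgroup.card_dvd_of_le hle))
      rw [hf, hc] at h
      rcases hr.dvd_mul.1 h with h | h
      · exact hNok r hr h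
      · exact hBok r hr h
    refine Subgroup.card_eq_one.1 (le_antisymm ?_ Nat.card_pos)
    refine Nat.le_of_mul_le_mul_left ?_ (Nat.card_pos : 0 < Nat.card N)
    rw [mul_one, ← hc]
    exact h1
  have hodd : ¬ 2 ∣ Nat.card (G ⧸ N) := by
    intro h2Q
    obtain ⟨s, hs⟩ := exists_prime_orderOf_dvd_card' 2 h2Q
    have hs2 : s * s = 1 := by rw [← pow_two, ← hs, pow_orderOf_eq_one]
    haveI : Group.IsSolvable (G ⧸ N) :=
      Group.isSolvable_of_surjective (QuotientGroup.mk'_surjective N)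
    set F := Cfsg.fittingSubgroup (G ⧸ N) with hF
    have hnil : Group.IsNilpotent F := Cores.fittingSubgroup_isNilpotent
    -- no prime of `F` satisfies `P`
    have hFP : ∀ r : ℕ, r.Prime → r ∣ Nat.card F → ¬ P r := by
      intro r hr hrF hPr
      haveI : Fact r.Prime := ⟨hr⟩
      obtain ⟨S⟩ := (inferInstance : Nonempty (Sylow r F))
      haveI hSn : (S : Subgroup F).Normal :=
        ((Group.isNilpotent_of_finite_tfae (G := F)).out 0 3 rfl rfl).mp hnil r ⟨hr⟩ S
      haveI : (S : Subgroup F).Characteristic := Sylow.characteristic_of_normal S hSn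
      have hB := hbot ((S : Subgroup F).map F.subtype) inferInstance fun p' hp' h => by
        rw [Subgroup.card_map_of_injective F.subtype_injective, S.card_eq_multiplicity] at h
        rw [(Nat.prime_dvd_prime_iff_eq hp' hr).1 (hp'.dvd_of_dvd_pow h)]
        exact hPr
      rw [Subgroup.map_eq_bot_iff_of_injective _ F.subtype_injective] at hB
      exact S.ne_bot_of_dvd_card hrF hB
    by_cases hc : ∀ v ∈ F, s * v = v * s
    · have hsF : s ∈ F := Cores.centralizer_fittingSubgroup_le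
        (Subgroup.mem_centralizer_iff.2 fun v hv => (hc v hv).symm)
      refine hFP 2 Nat.prime_two ?_ hP2
      rw [← hs]
      exact Subgroup.orderOf_coe (⟨s, hsF⟩ : F) ▸ orderOf_dvd_natCard _
    push Not at hc
    obtain ⟨v, hv, hne⟩ := hc
    set w := v⁻¹ * (s * v * s⁻¹) with hw
    have hwF : w ∈ F := mul_mem (inv_mem hv) (Subgroup.Normal.conj_mem inferInstance v hv s)
    have hw1 : w ≠ 1 := by
      intro e
      apply hne
      calc s * v = v * (v⁻¹ * (s * v * s⁻¹)) * s := by group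
        _ = v * s := by rw [← hw, e, mul_one]
    have hwi : s * w * s⁻¹ = w⁻¹ := by
      have hsi : s⁻¹ = s := inv_eq_of_mul_eq_one_right hs2
      calc s * w * s⁻¹ = (s * v * s⁻¹)⁻¹ * ((s * s) * v * (s * s)⁻¹) := by rw [hw]; group
        _ = w⁻¹ := by rw [hs2, hw]; group
    have hodd : Odd (orderOf w) := by
      rw [← Nat.not_even_iff_odd]
      intro hev
      refine hFP 2 Nat.prime_two ((even_iff_two_dvd.1 hev).trans ?_) hP2
      exact Subgroup.orderOf_coe (⟨w, hwF⟩ : F) ▸ orderOf_dvd_natCard _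
    obtain ⟨j, hj⟩ := exists_PP_pow hw1 hodd
    obtain ⟨y, hyP, hyr, hyw⟩ :=
      exists_lift f (QuotientGroup.mk'_surjective N) hj (inv_pow_of_inv hwi j)
    have h1 : orderOf (w ^ j) ≠ 1 := fun e => hj.1 (orderOf_eq_one_iff.1 e)
    set r := (orderOf (w ^ j)).minFac
    have hr : r.Prime := Nat.minFac_prime h1
    have hrd : r ∣ orderOf (w ^ j) := Nat.minFac_dvd _
    refine hFP r hr ?_ (hP y hyr hyP.odd r hr (hrd.trans (hyw ▸ orderOf_map_dvd f y)))
    exact hrd.trans (Subgroup.orderOf_coe (⟨w ^ j, pow_mem hwF j⟩ : F) ▸ orderOf_dvd_natCard _)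
  have hle : twoGen G ≤ N := by
    refine (Subgroup.closure_le _).2 ?_
    rintro g ⟨k, hk⟩
    refine (QuotientGroup.eq_one_iff g).1 (orderOf_eq_one_iff.1 ?_)
    refine Nat.eq_one_of_dvd_coprimes (Nat.Coprime.pow_left k
      (Nat.prime_two.coprime_iff_not_dvd.2 hodd)) (hk ▸ orderOf_map_dvd f g) (orderOf_dvd_natCard _)
  exact hNok p hp (hd.trans (Subgroup.card_dvd_of_le hle))

/-- A real class of even size exists as soon as the graph is disconnected. -/
theorem exists_even_real (π₁ π₂ : Set ℕ)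
    (hcov : ∀ p : ℕ, p.Prime → ∀ x : G, IsConj x x⁻¹ →
      p ∣ (Subgroup.centralizer ({x} : Set G)).index → p ∈ π₁ ∨ p ∈ π₂)
    (hno : ∀ a ∈ π₁, ∀ b ∈ π₂, ∀ x : G, IsConj x x⁻¹ →
      a ∣ (Subgroup.centralizer ({x} : Set G)).index →
        ¬ b ∣ (Subgroup.centralizer ({x} : Set G)).index)
    {q₁ : ℕ} (hq₁ : q₁ ∈ π₁) {x₁ : G} (hx₁ : IsConj x₁ x₁⁻¹)
    (hd₁ : q₁ ∣ (Subgroup.centralizer ({x₁} : Set G)).index)
    {q₂ : ℕ} (hq₂ : q₂ ∈ π₂) {x₂ : G} (hx₂ : IsConj x₂ x₂⁻¹)
    (hd₂ : q₂ ∣ (Subgroup.centralizer ({x₂} : Set G)).index)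
    (hp₁ : q₁.Prime) (hp₂ : q₂.Prime) :
    ∃ x : G, IsConj x x⁻¹ ∧ 2 ∣ (Subgroup.centralizer ({x} : Set G)).index := by
  haveI : Fact (Nat.Prime 2) := ⟨Nat.prime_two⟩
  by_contra hc
  push Not at hc
  have hinv : ∀ x : G, IsConj x x⁻¹ → x⁻¹ = x := fun x hx =>
    by_contra fun h => hc x hx (two_dvd_index hx h)
  obtain ⟨S⟩ := (inferInstance : Nonempty (Sylow 2 G))
  have hSn : (S : Subgroup G).Normal := (S3861.result S).1 fun x hx1 ho hr => by
    have e := hinv x hr
    refine hx1 (eq_one_of_odd ho (n := 1) ?_)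
    rw [pow_one, pow_two]
    nth_rw 1 [← e]
    exact inv_mul_cancel x
  set u := x₁ with hu
  set v := x₂ with hv
  set A := Subgroup.centralizer ({u} : Set G) with hA
  set B := Subgroup.centralizer ({v} : Set G) with hB
  have hu2 : u * u = 1 := by nth_rw 1 [← hinv u hx₁]; exact inv_mul_cancel u
  have hv2 : v * v = 1 := by nth_rw 1 [← hinv v hx₂]; exact inv_mul_cancel v
  -- both are central in the normal Sylow 2-subgroup
  haveI := hSn
  have hmemS : ∀ {w : G} {n : ℕ}, w ^ 2 ^ n = 1 → w ∈ (S : Subgroup G) := by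
    intro w n hw
    obtain ⟨T, hT⟩ := (isPGroup_zpowers_two hw).exists_le_sylow
    haveI : Subsingleton (Sylow 2 G) := (Sylow.unique_of_normal S hSn).instSubsingleton
    exact Subsingleton.elim T S ▸ hT (Subgroup.mem_zpowers w)
  have hSC : ∀ {x : G}, IsConj x x⁻¹ →
      (S : Subgroup G) ≤ Subgroup.centralizer ({x} : Set G) := by
    intro x hx s hs
    obtain ⟨T⟩ := (inferInstance : Nonempty (Sylow 2 (Subgroup.centralizer ({x} : Set G))))
    haveI : Subsingleton (Sylow 2 G) := (Sylow.unique_of_normal S hSn).instSubsingleton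
    have hTS : (T : Subgroup _).map (Subgroup.centralizer ({x} : Set G)).subtype = S := by
      let T' : Sylow 2 G := Sylow.ofCard _ (by
        rw [Subgroup.card_map_of_injective (Subgroup.subtype_injective _), T.card_eq_multiplicity]
        congr 1
        rw [← (Subgroup.centralizer ({x} : Set G)).card_mul_index,
          Nat.factorization_mul Nat.card_pos.ne' Subgroup.index_ne_zero_of_finite,
          Finsupp.add_apply, Nat.factorization_eq_zero_of_not_dvd (hc x hx), add_zero])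
      exact congrArg (fun P : Sylow 2 G => (P : Subgroup G)) (Subsingleton.elim T' S)
    exact Subgroup.map_subtype_le _ (hTS.symm ▸ hs)
  have huv : u * v = v * u :=
    (Subgroup.mem_centralizer_singleton_iff.1
      (hSC hx₁ (hmemS (n := 1) (by rw [pow_one, pow_two, hv2])))).symm
  -- the class sizes
  have hprimes : ∀ p : ℕ, p.Prime → (p ∣ A.index → p ∈ π₁) ∧ (p ∣ B.index → p ∈ π₂) := by
    refine fun p hp => ⟨fun h => ?_, fun h => ?_⟩
    · exact (hcov p hp u hx₁ h).resolve_right fun h' => hno q₁ hq₁ p h' u hx₁ hd₁ h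
    · exact (hcov p hp v hx₂ h).resolve_left fun h' => hno p h' q₂ hq₂ v hx₂ h hd₂
  have hcop : A.index.Coprime B.index := Nat.coprime_of_dvd fun p hp ha hb =>
    hno p ((hprimes p hp).1 ha) p ((hprimes p hp).2 hb) u hx₁ ha ha
  set W := Subgroup.centralizer ({u * v} : Set G) with hW
  have hwr : IsConj (u * v) (u * v)⁻¹ := by
    rw [show (u * v)⁻¹ = u * v by rw [mul_inv_rev, hinv u hx₁, hinv v hx₂, huv]]
  have hWdvd : W.index ∣ A.index * B.index := by
    refine (Subgroup.index_dvd_of_le (H := A ⊓ B) ?_).trans ?_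
    · intro c ⟨hc1, hc2⟩
      exact Subgroup.mem_centralizer_singleton_iff.2
        ((show Commute c u from Subgroup.mem_centralizer_singleton_iff.1 hc1).mul_right
          (show Commute c v from Subgroup.mem_centralizer_singleton_iff.1 hc2)).eq
    · have h1 : A.index * B.index ∣ (A ⊓ B).index :=
        hcop.mul_dvd_of_dvd_of_dvd (Subgroup.index_dvd_of_le inf_le_left)
          (Subgroup.index_dvd_of_le inf_le_right)
      rw [Nat.le_antisymm (Subgroup.index_inf_le (H := A) (K := B))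
        (Nat.le_of_dvd (Nat.pos_of_ne_zero Subgroup.index_ne_zero_of_finite) h1)]
  -- translation argument
  have hcls : ∀ w : G, Nat.card {y : G // IsConj w y} = (Subgroup.centralizer ({w} : Set G)).index :=
    fun w => Nat.eq_of_mul_eq_mul_left Nat.card_pos
      ((SmallSimple.Basic.card_centralizer_mul_card_class w).trans (Subgroup.card_mul_index _).symm)
  have key : ∀ a b : G, a * b = b * a → b * b = 1 →
      (Subgroup.centralizer ({a} : Set G)).index.Coprime (Subgroup.centralizer ({b} : Set G)).index →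
      ¬ 2 ∣ (Subgroup.centralizer ({a} : Set G)).index →
      (Subgroup.centralizer ({b} : Set G)).index ≠ 1 →
      ¬ (Subgroup.centralizer ({a * b} : Set G)).index ∣ (Subgroup.centralizer ({a} : Set G)).index := by
    intro a b hab hb2 hco ha2 hb1 hd
    classical
    haveI := Fintype.ofFinite G
    have hmem : ∀ x b' : G, IsConj a x → IsConj b b' → IsConj (a * b) (x * b') := by
      intro x b' hx hb'
      obtain ⟨g, rfl⟩ := isConj_iff.1 hx
      obtain ⟨h, rfl⟩ := isConj_iff.1 hb'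
      obtain ⟨c, hc, d, hd', he⟩ := exists_mul_of_coprime_index _ _ hco (g⁻¹ * h)
      have hc' : c * a * c⁻¹ = a := by
        rw [Subgroup.mem_centralizer_singleton_iff.1 hc, mul_inv_cancel_right]
      have hd'' : d * b * d⁻¹ = b := by
        rw [Subgroup.mem_centralizer_singleton_iff.1 hd', mul_inv_cancel_right]
      refine isConj_iff.2 ⟨g * c, ?_⟩
      calc g * c * (a * b) * (g * c)⁻¹ = g * (c * a * c⁻¹) * g⁻¹ * (g * c * b * (g * c)⁻¹) := by
            group
        _ = g * a * g⁻¹ * (g * (c * d) * b * (g * (c * d))⁻¹) := by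
            rw [hc']; congr 1; conv_lhs => rw [← hd'']
            group
        _ = g * a * g⁻¹ * (h * b * h⁻¹) := by rw [← he]; group
    set X := (Finset.univ.filter fun y : G => IsConj a y) with hX
    set Z := (Finset.univ.filter fun y : G => IsConj (a * b) y) with hZ
    have hcardX : X.card = (Subgroup.centralizer ({a} : Set G)).index := by
      rw [← hcls a, Nat.card_eq_fintype_card, Fintype.card_subtype]
    have hcardZ : Z.card ≤ X.card := by
      rw [hcardX, hZ, ← Fintype.card_subtype, ← Nat.card_eq_fintype_card, hcls]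
      exact Nat.le_of_dvd (Nat.pos_of_ne_zero Subgroup.index_ne_zero_of_finite) hd
    have himg : ∀ b' : G, IsConj b b' → X.image (· * b') = Z := by
      intro b' hb'
      refine Finset.eq_of_subset_of_card_le ?_ ?_
      · intro w hw
        obtain ⟨x, hx, rfl⟩ := Finset.mem_image.1 hw
        simp only [hX, Finset.mem_filter, Finset.mem_univ, true_and] at hx
        simp only [hZ, Finset.mem_filter, Finset.mem_univ, true_and]
        exact hmem x b' hx hb'
      · rw [Finset.card_image_of_injective _ (mul_left_injective b')]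
        exact hcardZ
    obtain ⟨b', hb', hne⟩ : ∃ b' : G, IsConj b b' ∧ b' ≠ b := by
      by_contra hcon
      push Not at hcon
      apply hb1
      rw [Subgroup.index_eq_one]
      refine eq_top_iff.2 fun g _ => Subgroup.mem_centralizer_singleton_iff.2 ?_
      have := hcon _ (isConj_iff.2 ⟨g, rfl⟩)
      rwa [mul_inv_eq_iff_eq_mul] at this
    set d := b * b' with hd'
    have hd1 : d ≠ 1 := fun e => hne (by
      rw [← inv_eq_of_mul_eq_one_right e, inv_eq_of_mul_eq_one_right hb2])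
    have hb'2 : b' * b' = 1 := by
      obtain ⟨g, rfl⟩ := isConj_iff.1 hb'
      exact invol_conj hb2 g
    have hXd : ∀ x ∈ X, x * d ∈ X := by
      intro x hx
      have h1 : x * b ∈ Z := himg b (IsConj.refl b) ▸ Finset.mem_image_of_mem _ hx
      rw [← himg b' hb'] at h1
      obtain ⟨x', hx', he⟩ := Finset.mem_image.1 h1
      rw [hd', ← mul_assoc, ← he, mul_assoc, hb'2, mul_one]
      exact hx'
    have hd2 : d * d = 1 := by
      have hS1 := hmemS (n := 1) (w := b) (by rw [pow_one, pow_two, hb2])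
      have hbb : b' * b = b * b' := by
        have hb'r : IsConj b' b'⁻¹ := by rw [inv_eq_of_mul_eq_one_right hb'2]
        exact (Subgroup.mem_centralizer_singleton_iff.1 (hSC hb'r hS1)).symm
      rw [hd', mul_assoc, ← mul_assoc b', hbb, mul_assoc b, hb'2, mul_one, hb2]
    apply ha2
    rw [← hcardX]
    refine (ZMod.natCast_eq_zero_iff_even.1 ?_).two_dvd
    rw [Finset.card_eq_sum_ones, Nat.cast_sum]
    refine Finset.sum_involution (fun x _ => x * d) (fun x _ => CharTwo.add_self_eq_zero _) (fun x _ _ e => ?_)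
      (fun x hx => hXd x hx) (fun x _ => by rw [mul_assoc, hd2, mul_one])
    exact hd1 (mul_left_cancel (e.trans (mul_one x).symm))
  obtain hbad | hbad : W.index ∣ A.index ∨ W.index ∣ B.index := by
    by_cases h1 : ∃ p : ℕ, p.Prime ∧ p ∣ W.index ∧ p ∣ B.index
    · obtain ⟨p, hp, hpW, hpB⟩ := h1
      refine Or.inr (Nat.Coprime.dvd_of_dvd_mul_left (Nat.coprime_of_dvd fun r hr hrW hrA => ?_) hWdvd)
      exact hno r ((hprimes r hr).1 hrA) p ((hprimes p hp).2 hpB) _ hwr hrW hpW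
    · push Not at h1
      exact Or.inl (Nat.Coprime.dvd_of_dvd_mul_right
        (Nat.coprime_of_dvd fun r hr hrW hrB => h1 r hr hrW hrB) hWdvd)
  · exact key u v huv hv2 hcop (hc u hx₁) (fun e => by
      rw [e, Nat.dvd_one] at hd₂; exact hp₂.ne_one hd₂) hbad
  · rw [hW, huv] at hbad
    exact key v u huv.symm hu2 hcop.symm (hc v hx₂) (fun e => by
      rw [e, Nat.dvd_one] at hd₁; exact hp₁.ne_one hd₁) hbad

/-- S4192 with `2 ∈ π₁`, when the Sylow 2-subgroups are not normal. -/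
theorem structure_main (π₁ π₂ : Set ℕ)
    (hcov : ∀ p : ℕ, p.Prime → ∀ x : G, IsConj x x⁻¹ →
      p ∣ (Subgroup.centralizer ({x} : Set G)).index → p ∈ π₁ ∨ p ∈ π₂)
    (hno : ∀ a ∈ π₁, ∀ b ∈ π₂, ∀ x : G, IsConj x x⁻¹ →
      a ∣ (Subgroup.centralizer ({x} : Set G)).index →
        ¬ b ∣ (Subgroup.centralizer ({x} : Set G)).index)
    (h2 : 2 ∈ π₁) {q : ℕ} (hq : q ∈ π₂) {z : G} (hz : IsConj z z⁻¹)
    (hqz : q ∣ (Subgroup.centralizer ({z} : Set G)).index) (hqp : q.Prime)
    (hN : ¬ ∀ P : Sylow 2 G, (P : Subgroup G).Normal) :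
    ((∃ π₁ π₂ : Set ℕ, π₁.Nonempty ∧ π₂.Nonempty ∧ Disjoint π₁ π₂ ∧ (∀ q ∈ π₁ ∪ π₂, q.Prime ∧ ∃ n ∈ {n : ℕ | ∃ x : ↥(Subgroup.closure {g : G | ∃ k : ℕ, orderOf g = 2 ^ k}), IsConj x x⁻¹ ∧ (Subgroup.centralizer ({x} : Set ↥(Subgroup.closure {g : G | ∃ k : ℕ, orderOf g = 2 ^ k}))).index = n}, q ∣ n) ∧ (∀ q : ℕ, q.Prime → (∃ n ∈ {n : ℕ | ∃ x : ↥(Subgroup.closure {g : G | ∃ k : ℕ, orderOf g = 2 ^ k}), IsConj x x⁻¹ ∧ (Subgroup.centralizer ({x} : Set ↥(Subgroup.closure {g : G | ∃ k : ℕ, orderOf g = 2 ^ k}))).index = n}, q ∣ n) → q ∈ π₁ ∨ q ∈ π₂) ∧ ∀ a ∈ π₁, ∀ b ∈ π₂, ∀ n ∈ {n : ℕ | ∃ x : ↥(Subgroup.closure {g : G | ∃ k : ℕ, orderOf g = 2 ^ k}), IsConj x x⁻¹ ∧ (Subgroup.centralizer ({x} : Set ↥(Subgroup.closure {g : G | ∃ k : ℕ, orderOf g = 2 ^ k}))).index = n}, ¬ (a ∣ n ∧ b ∣ n)) ∧ ∀ n ∈ {n : ℕ | ∃ x : ↥(Subgroup.closure {g : G | ∃ k : ℕ, orderOf g = 2 ^ k}), IsConj x x⁻¹ ∧ (Subgroup.centralizer ({x} : Set ↥(Subgroup.closure {g : G | ∃ k : ℕ, orderOf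 g = 2 ^ k}))).index = n}, Odd n ∨ ∃ j : ℕ, n = 2 ^ j) := by
  haveI : Fact (Nat.Prime 2) := ⟨Nat.prime_two⟩
  obtain ⟨⟨hzi, hodd⟩, hnoreal, -⟩ := setting π₁ π₂ hcov hno h2 hq hz hqz
  haveI := main π₁ π₂ hcov hno h2 hq hz hqz
  set K := twoGen G with hK
  have hKreal : ∀ x : K, IsConj x x⁻¹ → IsConj (x : G) (x : G)⁻¹ := fun x hx => by
    simpa using K.subtype.map_isConj hx
  have hdvd : ∀ x : K, (Subgroup.centralizer ({x} : Set K)).index ∣
      (Subgroup.centralizer ({(x : G)} : Set G)).index := by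
    intro x
    have he : Subgroup.centralizer ({x} : Set K) =
        (Subgroup.centralizer ({(x : G)} : Set G)).subgroupOf K := by
      ext w
      rw [Subgroup.mem_subgroupOf, Subgroup.mem_centralizer_singleton_iff,
        Subgroup.mem_centralizer_singleton_iff]
      exact ⟨fun h => congrArg Subtype.val h, fun h => Subtype.ext h⟩
    rw [he]
    exact Cores.relIndex_dvd_index_right_normal _ K
  have hpow : ∀ x : K, IsConj x x⁻¹ → 2 ∣ (Subgroup.centralizer ({x} : Set K)).index →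
      ∀ p : ℕ, p.Prime → p ∣ (Subgroup.centralizer ({x} : Set K)).index → p = 2 := by
    intro x hx hx2 p hp hpx
    have hP := twoGen_primes (G := G) (fun r => r = 2 ∨ r ∈ π₂) (Or.inl rfl)
      (fun y hy ho r hr hry => Or.inr (prime_mem π₁ π₂ hcov hno h2 hq hz hqz hy ho hr hry)) hp
      (hpx.trans (Subgroup.index_dvd_card _))
    rcases hP with h | h
    · exact h
    · exact absurd (hpx.trans (hdvd x)) (hno 2 h2 p h x (hKreal x hx) (hx2.trans (hdvd x)))
  -- `K` contains `z` and a real element of odd order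
  obtain ⟨y, hy, ho, hy1⟩ : ∃ y : G, IsConj y y⁻¹ ∧ Odd (orderOf y) ∧ y ≠ 1 := by
    by_contra hcon
    push Not at hcon
    exact hN fun P => (S3861.result P).1 fun x hx1 ho hr => hx1 (hcon x hr ho)
  have hz2 : z ^ 2 ^ 1 = 1 := by
    rw [pow_one, pow_two]; nth_rw 1 [← hzi]; exact inv_mul_cancel z
  set zK : K := ⟨z, mem_twoGen_of_pow hz2⟩
  set yK : K := ⟨y, mem_twoGen_of_real hy ho⟩
  have hzK : IsConj zK zK⁻¹ := by rw [show zK⁻¹ = zK from Subtype.ext hzi]
  have hyK : IsConj yK yK⁻¹ := by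
    obtain ⟨t, ht, hty⟩ := exists_two_inverter hy
    exact isConj_iff.2 ⟨⟨t, ht⟩, Subtype.ext hty⟩
  have hy2 : 2 ∣ (Subgroup.centralizer ({yK} : Set K)).index := by
    refine two_dvd_index hyK fun e => hy1 (eq_one_of_odd ho (n := 1) ?_)
    rw [pow_one, pow_two]
    nth_rw 1 [← show y⁻¹ = y from congrArg Subtype.val e]
    exact inv_mul_cancel y
  have hzne : (Subgroup.centralizer ({zK} : Set K)).index ≠ 1 := by
    intro e
    rw [Subgroup.index_eq_one] at e
    have h1 : yK ∈ Subgroup.centralizer ({zK} : Set K) := e ▸ Subgroup.mem_top _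
    exact hnoreal y hy ho hy1 (Subgroup.mem_centralizer_singleton_iff.2
      (congrArg Subtype.val (Subgroup.mem_centralizer_singleton_iff.1 h1)))
  have hzodd : ¬ 2 ∣ (Subgroup.centralizer ({zK} : Set K)).index :=
    fun h => hodd (h.trans (hdvd zK))
  refine ⟨⟨{2}, {p : ℕ | p.Prime ∧ p ≠ 2 ∧ ∃ x : K, IsConj x x⁻¹ ∧
    p ∣ (Subgroup.centralizer ({x} : Set K)).index}, ⟨2, rfl⟩, ?_, ?_, ?_, ?_, ?_⟩, ?_⟩
  · obtain ⟨p, hp, hpz⟩ := Nat.exists_prime_and_dvd hzne
    exact ⟨p, hp, fun e => hzodd (e ▸ hpz), zK, hzK, hpz⟩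
  · rw [Set.disjoint_left]
    rintro p hp ⟨-, hp2, -⟩
    exact hp2 hp
  · rintro p (hp | ⟨hp, -, w, hw, hd⟩)
    · rw [Set.mem_singleton_iff] at hp
      subst hp
      exact ⟨Nat.prime_two, _, ⟨yK, hyK, rfl⟩, hy2⟩
    · exact ⟨hp, _, ⟨w, hw, rfl⟩, hd⟩
  · rintro p hp ⟨_, ⟨w, hw, rfl⟩, hd⟩
    by_cases hp2 : p = 2
    · exact Or.inl hp2
    · exact Or.inr ⟨hp, hp2, w, hw, hd⟩
  · rintro a ha b ⟨hb, hb2, -⟩ _ ⟨w, hw, rfl⟩ ⟨haw, hbw⟩
    rw [Set.mem_singleton_iff] at ha
    subst ha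
    exact hb2 (hpow w hw haw b hb hbw)
  · rintro _ ⟨w, hw, rfl⟩
    by_cases h : 2 ∣ (Subgroup.centralizer ({w} : Set K)).index
    · exact Or.inr ⟨_, Nat.eq_prime_pow_of_unique_prime_dvd Subgroup.index_ne_zero_of_finite
        (fun {p} hp hd => hpow w hw h p hp hd)⟩
    · exact Or.inl (Nat.odd_iff.2 (Nat.two_dvd_ne_zero.1 h))

end Cfsg.Agent.RealClassDisc
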